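import Groth.Agent.Sga7.H763.Dia
import Mathlib.Algebra.Algebra.Pi
import Mathlib.Algebra.BigOperators.Group.Finset.Defs

/-!
# Morphisms `Spec B ⟶ Spec k[M]`

`toD k χ : Spec B ⟶ D k M` for a character `χ : Multiplicative M →* B` of a `k`-algebra `B`;
`pw b : Multiplicative ℕ →* B` and `mpw T : Multiplicative (ι → ℕ) →* B` the characters `n ↦ b ^ n`,
`n ↦ ∏ i, T i ^ n i`.
-/

set_option autoImplicit false
universe u

open CategoryTheory CategoryTheory.Limits AlgebraicGeometry

namespace Groth.Agent.Sga7.H763.ToD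

open Dia

section

variable {B : Type u} [CommRing B]

/-- `n ↦ b ^ n`. -/
def pw (b : B) : Multiplicative ℕ →* B where
  toFun n := b ^ n.toAdd
  map_one' := pow_zero b
  map_mul' _ _ := pow_add b _ _

@[simp] theorem pw_ofAdd (b : B) (n : ℕ) : pw b (Multiplicative.ofAdd n) = b ^ n := rfl

/-- `n ↦ ∏ i, T i ^ n i`. -/
def mpw {ι : Type} [Fintype ι] (T : ι → B) : Multiplicative (ι → ℕ) →* B where
  toFun n := ∏ i, T i ^ (n.toAdd i)
  map_one' := by simp
  map_mul' m n := by simp [pow_add, Finset.prod_mul_distrib]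

@[simp] theorem mpw_ofAdd {ι : Type} [Fintype ι] (T : ι → B) (n : ι → ℕ) :
    mpw T (Multiplicative.ofAdd n) = ∏ i, T i ^ n i := rfl

end

variable (k : Type u) [Field k] {B : Type u} [CommRing B] [Algebra k B] {M N : Type} [AddCommMonoid M]
  [AddCommMonoid N]

/-- The morphism attached to a character. -/
noncomputable def toD (χ : Multiplicative M →* B) : Spec (CommRingCat.of B) ⟶ D k M :=
  Spec.map (CommRingCat.ofHom (mk k (algebraMap k B) χ))

@[reassoc]
theorem toD_Dm (χ : Multiplicative N →* B) (f : M →+ N) :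
    toD k χ ≫ Dm k f = toD k (χ.comp (AddMonoidHom.toMultiplicative f)) := by
  rw [toD, toD, Dm]
  refine (Spec.map_comp _ _).symm.trans ?_
  rw [← CommRingCat.ofHom_comp]
  congr 2
  apply hom_ext'
  · intro r
    simp
  · intro m
    simp

@[reassoc]
theorem toD_str (χ : Multiplicative M →* B) :
    toD k χ ≫ str k M = Spec.map (CommRingCat.ofHom (algebraMap k B)) := by
  rw [toD, str]
  refine (Spec.map_comp _ _).symm.trans ?_
  rw [← CommRingCat.ofHom_comp]
  congr 2
  refine RingHom.ext fun r => ?_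
  change mk k (algebraMap k B) χ (AddMonoidAlgebra.single 0 r) = _
  rw [mk_single, ofAdd_zero, map_one, mul_one]

@[reassoc]
theorem map_toD {B' : Type u} [CommRing B'] [Algebra k B'] (ψ : B →ₐ[k] B')
    (χ : Multiplicative M →* B) : Spec.map (CommRingCat.ofHom (ψ : B →+* B')) ≫ toD k χ =
      toD k ((ψ : B →* B').comp χ) := by
  rw [toD, toD]
  refine (Spec.map_comp _ _).symm.trans ?_
  rw [← CommRingCat.ofHom_comp]
  congr 2
  apply hom_ext'
  · intro r
    simp
  · intro m
    simp

end Groth.Agent.Sga7.H763.ToD
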