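import Groth.Agent.Sga7.H763.BCn
import Groth.Agent.Sga4h.BaseCase

/-!
# Schemes with the `ℤ/n`-cohomology of a point

* `hC_of_hpt`: `Y ⟶ Spec k` (`k` separably closed) induces isomorphisms on `H^*(-, ℤ/n)` if `Y` has the
  cohomology of a point;
* `hpt_of_hC`, `hpt_of_hC'`;
* `acyc_baseChange`: base change of acyclicity along `g` with `Bcn n g`.
-/

set_option autoImplicit false
set_option backward.isDefEq.respectTransparency.types false
universe u

open CategoryTheory CategoryTheory.Limits AlgebraicGeometry Opposite Abelian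
open scoped Groth.Agent.Etcore.EtInst
open Groth.Agent.Etcore.EtInst

namespace Groth.Agent.Sga7.H763.Pt

open Groth.Agent.Etcore Groth.Agent.Etcore.HpullCalc HIso BCn
open Groth.Agent.EtpbcB Groth.Agent.EtpbcB.NKillEt
open Groth.Agent.Sga4h.StalkAcyc Groth.Agent.Sga4h.Acyc

variable {X Y Z W : Scheme.{u}} {n : ℕ}

theorem hIsom_of_acyc {f : X ⟶ Y} {F : EtCoh.Ab Y} (h : Acyc f F) : HIsom f F := by
  have := h.1
  intro q
  exact Groth.Agent.Sga4B.AcycMor.Hpull_bijective f F (fun p hp => h.2 p hp) q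

theorem hC_of_acyc {f : X ⟶ Y} (h : Acyc f (EtCoh.const Y (ZMod n))) : HC n f := hIsom_of_acyc h

theorem hC_of_hpt {k : Type u} [Field k] [IsSepClosed k] (hn : n ≠ 0)
    (a : Y ⟶ Spec (CommRingCat.of k)) [QuasiCompact a] [QuasiSeparated a] (h : HPt Y n) : HC n a :=
  hC_of_acyc (Groth.Agent.Sga4h.BaseCase.acyc_point a n hn h)

/-- The isomorphism on cohomology induced by `f` with `HC n f`. -/
theorem nonempty_equiv {f : X ⟶ Y} (h : HC n f) (q : ℕ) :
    Nonempty (EtCoh.H X (EtCoh.const X (ZMod n)) q ≃+ EtCoh.H Y (EtCoh.const Y (ZMod n)) q) :=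
  ⟨((AddEquiv.ofBijective _ (h q)).trans (HHcongr (EtCore.pullConst f (ZMod n)) q)).symm⟩

theorem hpt_of_hC {f : X ⟶ Y} (h : HC n f) (hY : HPt Y n) : HPt X n := by
  refine ⟨fun q hq => ?_, ?_⟩
  · obtain ⟨e⟩ := nonempty_equiv h q
    have := hY.1 q hq
    exact e.injective.subsingleton
  · obtain ⟨e⟩ := nonempty_equiv h 0
    obtain ⟨e'⟩ := hY.2
    exact ⟨e.trans e'⟩

theorem hpt_of_hC' {f : X ⟶ Y} (h : HC n f) (hX : HPt X n) : HPt Y n := by
  refine ⟨fun q hq => ?_, ?_⟩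
  · obtain ⟨e⟩ := nonempty_equiv h q
    have := hX.1 q hq
    exact e.symm.injective.subsingleton
  · obtain ⟨e⟩ := nonempty_equiv h 0
    obtain ⟨e'⟩ := hX.2
    exact ⟨e.symm.trans e'⟩

theorem killedBy_const (X : Scheme.{u}) (n : ℕ) : EtCoh.KilledBy n (EtCoh.const X (ZMod n)) :=
  Groth.Agent.EtpbcB.TorsionBasic.killedBy_const (ZMod n) n fun x => by
    rw [nsmul_eq_mul, ZMod.natCast_self, zero_mul]

/-- Base change of acyclicity. -/
theorem acyc_baseChange {P P' T T' : Scheme.{u}} {g : P' ⟶ P} (hg : Bcn n g) (a : T ⟶ P)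
    [QuasiCompact a] [QuasiSeparated a] (F : EtCoh.Ab P) (hF : EtCoh.KilledBy n F) (h : Acyc a F)
    (a' : T' ⟶ P') (g' : T' ⟶ T) (sq : IsPullback g' a' a g) : Acyc a' ((EtCoh.pull g).obj F) := by
  have h1 := hg a a' g' sq ((EtCoh.pull a).obj F) (killedBy_pull a hF)
  have i1 := h1.1
  have i2 := h.1
  have h2 := Groth.Agent.EtpbcA.LA.pull_unit_baseChange0 sq.w F
  constructor
  · have h3 : IsIso ((EtCoh.pullPushAdj a').unit.app ((EtCoh.pull g).obj F) ≫
        (EtCoh.push a').map ((Groth.Agent.EtpbcA.LA.kap sq.w).hom.app F)) := by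
      rw [← h2]
      infer_instance
    exact IsIso.of_isIso_comp_right _ ((EtCoh.push a').map ((Groth.Agent.EtpbcA.LA.kap sq.w).hom.app F))
  · intro q hq
    refine (h1.2 h.2 q hq).of_iso ((EtCoh.Rpush a' q).mapIso ?_)
    exact (Groth.Agent.EtpbcA.LA.kap sq.w).app F

/-- Base change of acyclicity for the constant sheaf. -/
theorem hC_baseChange {P P' T T' : Scheme.{u}} {g : P' ⟶ P} (hg : Bcn n g) (a : T ⟶ P)
    [QuasiCompact a] [QuasiSeparated a] (h : Acyc a (EtCoh.const P (ZMod n)))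
    (a' : T' ⟶ P') (g' : T' ⟶ T) (sq : IsPullback g' a' a g) : HC n a' :=
  hC_of_acyc ((acyc_baseChange hg a _ (killedBy_const P n) h a' g' sq).of_iso
    (EtCore.pullConst g (ZMod n)))

end Groth.Agent.Sga7.H763.Pt
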