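import Groth.Agent.Etcore.HpullCalc
import Groth.Agent.Etcore.HQ
import Groth.Agent.Etcore.HpVia

/-!
# Morphisms inducing isomorphisms on étale cohomology

`HIsom f G`: `H^q(Y, G) ⟶ H^q(X, f⁻¹ G)` is bijective for all `q`; `HC n f` : the same for `G = ℤ/n`.
-/

set_option autoImplicit false
set_option backward.isDefEq.respectTransparency.types false
universe u

open CategoryTheory CategoryTheory.Limits AlgebraicGeometry Opposite Abelian
open scoped Groth.Agent.Etcore.EtInst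
open Groth.Agent.Etcore.EtInst

namespace Groth.Agent.Sga7.H763.HIso

open Groth.Agent.Etcore Groth.Agent.Etcore.HpullCalc

attribute [local instance] Groth.Agent.Etcore.HQ.pfl

variable {X Y Z W : Scheme.{u}}

/-- `H^q(Y, G) ⟶ H^q(X, f⁻¹ G)` is bijective for all `q`. -/
def HIsom (f : X ⟶ Y) (G : EtCoh.Ab Y) : Prop := ∀ q, Function.Bijective (hp f G q)

theorem HIsom.of_iso {f : X ⟶ Y} {G G' : EtCoh.Ab Y} (h : HIsom f G) (e : G ≅ G') : HIsom f G' :=
  fun q => bijective_hp_of_iso f e (h q)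

theorem hIso_comp_iff (f : X ⟶ Y) (g : Y ⟶ Z) {G : EtCoh.Ab Z} (hg : HIsom g G) :
    HIsom (f ≫ g) G ↔ HIsom f ((EtCoh.pull g).obj G) :=
  forall_congr' fun q => bijective_hp_comp f g G q (hg q)

theorem HIsom.of_isIso (f : X ⟶ Y) [IsIso f] (G : EtCoh.Ab Y) : HIsom f G :=
  fun q => HpVia.hp_bijective_of_isIso f G q

theorem hIso_congr {f f' : X ⟶ Y} (e : f = f') {G : EtCoh.Ab Y} : HIsom f G ↔ HIsom f' G := by
  subst e
  exact Iff.rfl

/-- `HIso` for the constant sheaf `ℤ/n`. -/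
def HC (n : ℕ) (f : X ⟶ Y) : Prop := HIsom f (EtCoh.const Y (ZMod n))

theorem hC_comp_iff {n : ℕ} (f : X ⟶ Y) (g : Y ⟶ Z) (hg : HC n g) : HC n (f ≫ g) ↔ HC n f := by
  refine (hIso_comp_iff f g hg).trans ⟨fun h => h.of_iso (EtCore.pullConst g (ZMod n)),
    fun h => h.of_iso (EtCore.pullConst g (ZMod n)).symm⟩

theorem HC.of_isIso (n : ℕ) (f : X ⟶ Y) [IsIso f] : HC n f := HIsom.of_isIso f _

theorem hC_congr {n : ℕ} {f f' : X ⟶ Y} (e : f = f') : HC n f ↔ HC n f' := hIso_congr e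

theorem hC_isIso_comp_iff {n : ℕ} (f : X ⟶ Y) [IsIso f] (g : Y ⟶ Z) : HC n (f ≫ g) ↔ HC n g := by
  refine ⟨fun h => ?_, fun h => (hC_comp_iff f g h).2 (HC.of_isIso n f)⟩
  have h1 : HC n (inv f ≫ f ≫ g) := (hC_comp_iff _ _ h).2 (HC.of_isIso n _)
  exact (hC_congr (by simp)).1 h1

end Groth.Agent.Sga7.H763.HIso
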