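import Groth.Agent.Sga4h.CycField
import Groth.Agent.Sga4B.HpullSquare
import Groth.Agent.Sga7.H763.HIso
import Groth.Agent.Sga4B.AcycCmp
import Groth.Agent.EtpbcB.NKillEt
import Groth.Agent.Sga4A.IntegralSection
import Groth.Agent.EtpbcB.IntegralDegZero

/-!
# Cohomology and procyclic covers

`HIsom f G`: `H^q(Y, G) ⟶ H^q(X, f⁻¹ G)` is bijective for all `q`; `HC n f` : the same for `G = ℤ/n`.

* `descent`: `t : Z' ⟶ Z` a procyclic cover, `h : Y ⟶ Z`, `h'` its base change along `t`: if `h'` induces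
  isomorphisms on cohomology with coefficients in `t⁻¹ F`, so does `h` for `F`.
* `nonempty_prod`: if `Z' ⟶ Z ⟶ W` induces isomorphisms, then `H^{q+1}(Z) = H^{q+1}(W) × H^q(W)`.
-/

set_option autoImplicit false
set_option backward.isDefEq.respectTransparency.types false
universe u

open CategoryTheory CategoryTheory.Limits AlgebraicGeometry Opposite Abelian
open scoped Groth.Agent.Etcore.EtInst
open Groth.Agent.Etcore.EtInst

namespace Groth.Agent.Sga7.H763.Wang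

open Groth.Agent.Etcore Groth.Agent.Etcore.HpullCalc Groth.Agent.Sga4h.SigmaSeq HIso

attribute [local instance] Groth.Agent.Etcore.HQ.pfl

variable {X Y Z W : Scheme.{u}}

section Push

variable {X' Y' : Scheme.{u}}

/-- `H^q(Z, t_* G) ⟶ H^q(Y, h⁻¹ t_* G)` is bijective if `H^q(Z', G) ⟶ H^q(Y', h'⁻¹ G)` is. -/
theorem hIso_push {Z' : Scheme.{u}} (h : Y ⟶ Z) (t : Z' ⟶ Z) (t' : Y' ⟶ Y) (h' : Y' ⟶ Z')
    [IsIntegralHom t] (sq : IsPullback h' t' t h) (G : EtCoh.Ab Z') (H : HIsom h' G) :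
    HIsom h ((EtCoh.push t).obj G) := by
  have i1 : IsIntegralHom t' := MorphismProperty.of_isPullback sq ‹_›
  have i2 := Groth.Agent.Sga4A.EtSplit.preservesFiniteColimits_push t
  have i3 := Groth.Agent.Sga4A.EtSplit.preservesFiniteColimits_push t'
  have i4 : IsIso (EtCoh.baseChange0 t h t' h' sq.w G) :=
    Groth.Agent.EtpbcB.IntegralDegZero.isIso_baseChange0 t sq G
  intro q
  exact ⟨Groth.Agent.Sga4B.HpullSquare.injective_Hpull_push h t t' h' sq.w G q (H q).1,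
    Groth.Agent.Sga4B.HpullSquare.surjective_Hpull_push h t t' h' sq.w G q (H q).2⟩

end Push

section Descent

variable {K : Type u} [SmallCategory K] [IsCofiltered K] {T : K ⥤ Scheme.{u}}
  {τ : ∀ a, T.obj a ⟶ Z} {c : Cone T} {t : c.pt ⟶ Z} {n : ℕ} (D : CycData T τ c t n)

include D

/-- **Descent** along a procyclic cover. -/
theorem descent [IsIntegralHom t] (F : EtCoh.Ab Z) (hF : EtCoh.KilledBy n F) {Y' : Scheme.{u}}
    (h : Y ⟶ Z) (t' : Y' ⟶ Y) (h' : Y' ⟶ c.pt) (sq : IsPullback h' t' t h)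
    (H : HIsom h' ((EtCoh.pull t).obj F)) : HIsom h F := by
  have h1 : HIsom h ((EtCoh.push t).obj ((EtCoh.pull t).obj F)) := hIso_push h t t' h' sq _ H
  intro q
  exact ExtMap.bijective₁_all (EtCoh.pull h) (EtCore.pullConst h ℤ).inv (shortExact D F hF)
    (fun q => h1 q) (fun q => h1 q) q

end Descent

section Psi

variable {Z' : Scheme.{u}} (t : Z' ⟶ Z)

/-- The map `H^q(Z, t_* K) ⟶ H^q(Z', K)`. -/
noncomputable def bet (K : EtCoh.Ab Z') (q : ℕ) (x : HH Z ((EtCoh.push t).obj K) q) : HH Z' K q :=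
  (Ext.mk₀ (EtCore.pullConst t ℤ).inv).comp
    (Groth.Agent.Sga4B.AcycCmp.psi (EtCoh.pullPushAdj t) (EtCoh.const Z ℤ) K q x) (zero_add q)

theorem bet_unit (F : EtCoh.Ab Z) (q : ℕ) (x : HH Z F q) :
    bet t ((EtCoh.pull t).obj F) q (HHmap ((EtCoh.pullPushAdj t).unit.app F) q x) = hp t F q x := by
  rw [bet, HHmap_apply, Groth.Agent.Sga4B.AcycCmp.psi_apply, Ext.mapExactFunctor_comp,
    Ext.mapExactFunctor_mk₀, Ext.comp_assoc_of_third_deg_zero, Ext.mk₀_comp_mk₀]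
  refine Eq.trans (congrArg (fun z => (Ext.mk₀ (EtCore.pullConst t ℤ).inv).comp
    ((x.mapExactFunctor (EtCoh.pull t)).comp (Ext.mk₀ z) (add_zero q)) (zero_add q))
    ((EtCoh.pullPushAdj t).left_triangle_components F)) ?_
  rw [Ext.comp_mk₀_id, hp_apply]

theorem bijective_bet [IsIntegralHom t] (K : EtCoh.Ab Z') (q : ℕ) : Function.Bijective (bet t K q) := by
  have h1 : Groth.Agent.EtpbcB.Acyc.Acyclic (EtCoh.push t) K := fun p hp =>
    Groth.Agent.Sga4A.EtSplit.isZero_Rpush t K p hp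
  have h2 := Groth.Agent.Sga4B.AcycCmp.psi_bijective (EtCoh.pullPushAdj t) (EtCoh.const Z ℤ) q K h1
  have h4 : Function.Bijective (fun e : Ext.{u+1} ((EtCoh.pull t).obj (EtCoh.const Z ℤ)) K q =>
      (Ext.mk₀ (EtCore.pullConst t ℤ).inv).comp e (zero_add q)) :=
    Function.bijective_iff_has_inverse.2
      ⟨fun e => (Ext.mk₀ (EtCore.pullConst t ℤ).hom).comp e (zero_add q), fun e => by
        dsimp only
        rw [← Ext.comp_assoc_of_second_deg_zero, Ext.mk₀_comp_mk₀, Iso.hom_inv_id, Ext.mk₀_id_comp],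
      fun e => by
        dsimp only
        rw [← Ext.comp_assoc_of_second_deg_zero, Ext.mk₀_comp_mk₀, Iso.inv_hom_id, Ext.mk₀_id_comp]⟩
  exact h4.comp h2

end Psi

section Abstract

/-- The algebra behind the product formula. -/
theorem prod_aux {A₀ A₁ F₀ F₁ M₀ M₁ : Type*} [AddCommGroup A₀] [AddCommGroup A₁] [AddCommGroup F₀]
    [AddCommGroup F₁] [AddCommGroup M₀] [AddCommGroup M₁] (α₀ : A₀ →+ F₀) (α₁ : A₁ →+ F₁)
    (l₀ : F₀ →+ M₀) (l₁ : F₁ →+ M₁) (g₀ : M₀ →+ M₀) (d : M₀ →+ F₁) (h1 : Function.Exact l₀ g₀)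
    (h2 : Function.Exact g₀ d) (h3 : Function.Exact d l₁) (b0 : Function.Bijective (l₀ ∘ α₀))
    (b1 : Function.Bijective (l₁ ∘ α₁)) : Nonempty (F₁ ≃+ A₁ × A₀) := by
  let e : A₁ × A₀ →+ F₁ := AddMonoidHom.coprod α₁ (d.comp (l₀.comp α₀))
  have he : ∀ x, e x = α₁ x.1 + d (l₀ (α₀ x.2)) := fun _ => rfl
  have hg : ∀ m, g₀ m = 0 := by
    intro m
    obtain ⟨a, ha⟩ := b0.2 m
    exact (h1 m).2 ⟨α₀ a, ha⟩
  have hd : Function.Injective d := by
    rw [injective_iff_map_eq_zero]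
    intro m hm
    obtain ⟨m', rfl⟩ := (h2 m).1 hm
    exact hg m'
  have hl : ∀ m, l₁ (d m) = 0 := fun m => (h3 _).2 ⟨m, rfl⟩
  refine ⟨(AddEquiv.ofBijective e ⟨?_, ?_⟩).symm⟩
  · rw [injective_iff_map_eq_zero]
    rintro ⟨a, b⟩ hab
    rw [he] at hab
    have h5 : l₁ (α₁ a) = 0 := by
      have := congrArg l₁ hab
      rwa [map_add, hl, add_zero, map_zero] at this
    have ha : a = 0 := b1.1 (by simpa using h5)
    subst ha
    rw [map_zero, zero_add] at hab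
    have h6 : l₀ (α₀ b) = 0 := hd (by rw [hab, map_zero])
    have hb : b = 0 := b0.1 (by simpa using h6)
    rw [hb]
    rfl
  · intro z
    obtain ⟨a, ha⟩ := b1.2 (l₁ z)
    have h5 : l₁ (z - α₁ a) = 0 := by
      rw [map_sub, sub_eq_zero]
      exact ha.symm
    obtain ⟨m, hm⟩ := (h3 _).1 h5
    obtain ⟨b, hb⟩ := b0.2 m
    refine ⟨(a, b), ?_⟩
    rw [he]
    change α₁ a + d ((l₀ ∘ α₀) b) = z
    rw [hb, hm, add_sub_cancel]

theorem zero_aux {A₀ F₀ M₀ : Type*} [AddCommGroup A₀] [AddCommGroup F₀] [AddCommGroup M₀]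
    (α₀ : A₀ →+ F₀) (l₀ : F₀ →+ M₀) (hl : Function.Injective l₀) (b0 : Function.Bijective (l₀ ∘ α₀)) :
    Function.Bijective α₀ := by
  refine ⟨fun a b h => b0.1 (congrArg l₀ h), fun z => ?_⟩
  obtain ⟨a, ha⟩ := b0.2 (l₀ z)
  exact ⟨a, hl ha⟩

end Abstract

section Product

variable {K : Type u} [SmallCategory K] [IsCofiltered K] {T : K ⥤ Scheme.{u}}
  {τ : ∀ a, T.obj a ⟶ Z} {c : Cone T} {t : c.pt ⟶ Z} {n : ℕ} (D : CycData T τ c t n)

include D

theorem bijective_comp [IsIntegralHom t] (p : Z ⟶ W) (G : EtCoh.Ab W)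
    (hp' : HIsom (t ≫ p) G) (q : ℕ) :
    Function.Bijective (ExtMap.lf (seq D ((EtCoh.pull p).obj G)) (EtCoh.const Z ℤ) q ∘ hp p G q) := by
  have h1 := bijective_bet t ((EtCoh.pull t).obj ((EtCoh.pull p).obj G)) q
  refine (Function.Bijective.of_comp_iff' h1 _).1 ?_
  have h2 : bet t ((EtCoh.pull t).obj ((EtCoh.pull p).obj G)) q ∘
      (ExtMap.lf (seq D ((EtCoh.pull p).obj G)) (EtCoh.const Z ℤ) q ∘ hp p G q) =
      HHmap ((EtCore.pullComp t p).hom.app G) q ∘ hp (t ≫ p) G q := by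
    funext x
    exact (bet_unit t ((EtCoh.pull p).obj G) q (hp p G q x)).trans (hp_comp t p G q x)
  rw [h2]
  exact (HHmap_bijective _ q).comp (hp' q)

/-- **Product formula.** -/
theorem nonempty_prod [IsIntegralHom t] (p : Z ⟶ W) (G : EtCoh.Ab W) (hG : EtCoh.KilledBy n G)
    (hp' : HIsom (t ≫ p) G) (q : ℕ) :
    Nonempty (HH Z ((EtCoh.pull p).obj G) (q + 1) ≃+ HH W G (q + 1) × HH W G q) := by
  have hS := shortExact D ((EtCoh.pull p).obj G) (Groth.Agent.EtpbcB.NKillEt.killedBy_pull p hG)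
  exact prod_aux (hp p G q) (hp p G (q + 1)) _ _ _ _ (ExtMap.exact_fg hS (EtCoh.const Z ℤ) q)
    (ExtMap.exact_gδ hS (EtCoh.const Z ℤ) rfl) (ExtMap.exact_δf hS (EtCoh.const Z ℤ) rfl)
    (bijective_comp D p G hp' q) (bijective_comp D p G hp' (q + 1))

/-- Degree zero of the product formula. -/
theorem bijective_zero [IsIntegralHom t] (p : Z ⟶ W) (G : EtCoh.Ab W) (hG : EtCoh.KilledBy n G)
    (hp' : HIsom (t ≫ p) G) : Function.Bijective (hp p G 0) := by
  have hS := shortExact D ((EtCoh.pull p).obj G) (Groth.Agent.EtpbcB.NKillEt.killedBy_pull p hG)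
  exact zero_aux (hp p G 0) _ (ExtMap.injective_lf_zero hS (EtCoh.const Z ℤ)) (bijective_comp D p G hp' 0)

end Product

end Groth.Agent.Sga7.H763.Wang
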