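import Groth.Agent.Sga7.H763.Dia
import Groth.Agent.Sga7.H763.Pt
import Groth.Agent.Sga7.H763.Wang
import Mathlib.Algebra.BigOperators.Fin

/-!
# The cohomology of powers of `G_m` and of schemes over them with acyclic universal cover

* `H_pow`: `H^q(Spec k[ℤ^r], ℤ/n) = (ℤ/n)^(r choose q)`;
* `hC_pow`: `y : Y ⟶ Spec k[ℤ^r]` with `Y ×_{k[ℤ^r]} k[ℚ^r]` having the cohomology of a point induces
  isomorphisms on cohomology.
-/

set_option autoImplicit false
set_option backward.isDefEq.respectTransparency.types false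
universe u

open CategoryTheory CategoryTheory.Limits AlgebraicGeometry Opposite Abelian
open scoped Groth.Agent.Etcore.EtInst
open Groth.Agent.Etcore.EtInst

namespace Groth.Agent.Sga7.H763.GmPow

open Groth.Agent.Etcore Groth.Agent.Etcore.HpullCalc HIso BCn Pt Dia
open Groth.Agent.Sga4h.StalkAcyc Groth.Agent.Sga4h.Acyc Groth.Agent.Sga4h.SigmaSeq

/-- `ℤ ⟶ ℚ`. -/
abbrev zq : ℤ →+ ℚ := Int.castAddHom ℚ

/-- The facts on the universal cover of `G_m` which are used. -/
structure Ctx (k : Type u) [Field k] (n : ℕ) : Prop where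
  hn : n ≠ 0
  cyc : ∃ (K : Type u) (_ : SmallCategory K) (_ : IsCofiltered K) (T : K ⥤ Scheme.{u})
    (τ : ∀ a, T.obj a ⟶ D k ℤ) (π : (Functor.const K).obj (D k ℚ) ⟶ T),
    Nonempty (CycData T τ (Cone.mk (D k ℚ) π) (Dm k zq) n)
  int : IsIntegralHom (Dm k zq)
  sm : ∀ r : ℕ, Bcn n (str k (Fin r → ℤ))
  hQ : HPt (D k ℚ) n

variable {k : Type u} [Field k] {n : ℕ}

section Cover

variable (C : Ctx k n) {Z Z' Y Y' W : Scheme.{u}} (u : Z ⟶ D k ℤ) {t : Z' ⟶ Z} {s : Z' ⟶ D k ℚ}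
  (sqZ : IsPullback t s u (Dm k zq))

include C sqZ

/-- Descent along the cover obtained by extracting all roots of a unit. -/
theorem descent_hC (h : Y ⟶ Z) (t' : Y' ⟶ Y) (h' : Y' ⟶ Z') (sq : IsPullback h' t' t h)
    (H : HC n h') : HC n h := by
  obtain ⟨K, _, _, T, τ, π, ⟨cd⟩⟩ := C.cyc
  have := C.int
  have hint : IsIntegralHom (pullback.fst u (Dm k zq)) :=
    MorphismProperty.pullback_fst _ _ C.int
  let e := sqZ.isoPullback
  have he : e.hom ≫ pullback.fst u (Dm k zq) = t := sqZ.isoPullback_hom_fst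
  have sq' : IsPullback (h' ≫ e.hom) t' (pullback.fst u (Dm k zq)) h :=
    IsPullback.of_iso sq (Iso.refl _) e (Iso.refl _) (Iso.refl _) (by simp) (by simp)
      (by simp [he]) (by simp)
  have H' : HC n (h' ≫ e.hom) := (hC_comp_iff _ _ (HC.of_isIso n e.hom)).2 H
  exact @Wang.descent Y Z K _ _ _ _ _ _ n (Groth.Agent.Sga4h.CycField.bc cd u) hint
    (EtCoh.const Z (ZMod n)) (killedBy_const Z n) Y' h t' (h' ≫ e.hom) sq'
    (H'.of_iso (EtCore.pullConst (pullback.fst u (Dm k zq)) (ZMod n)).symm)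

/-- The product formula. -/
theorem nonempty_prod (p : Z ⟶ W) (H : HC n (t ≫ p)) (q : ℕ) :
    Nonempty (HH Z (EtCoh.const Z (ZMod n)) (q + 1) ≃+
      HH W (EtCoh.const W (ZMod n)) (q + 1) × HH W (EtCoh.const W (ZMod n)) q) := by
  obtain ⟨K, _, _, T, τ, π, ⟨cd⟩⟩ := C.cyc
  have hint : IsIntegralHom (pullback.fst u (Dm k zq)) :=
    MorphismProperty.pullback_fst _ _ C.int
  let e := sqZ.isoPullback
  have he : e.hom ≫ pullback.fst u (Dm k zq) = t := sqZ.isoPullback_hom_fst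
  have H' : HC n (pullback.fst u (Dm k zq) ≫ p) := by
    rw [← he, Category.assoc] at H
    exact (hC_isIso_comp_iff e.hom _).1 H
  obtain ⟨e1⟩ := @Wang.nonempty_prod Z W K _ _ _ _ _ _ n (Groth.Agent.Sga4h.CycField.bc cd u) hint
    p (EtCoh.const W (ZMod n)) (killedBy_const W n) H' q
  exact ⟨(HHcongr (EtCore.pullConst p (ZMod n)).symm (q + 1)).trans e1⟩

/-- Degree zero. -/
theorem nonempty_zero (p : Z ⟶ W) (H : HC n (t ≫ p)) :
    Nonempty (HH Z (EtCoh.const Z (ZMod n)) 0 ≃+ HH W (EtCoh.const W (ZMod n)) 0) := by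
  obtain ⟨K, _, _, T, τ, π, ⟨cd⟩⟩ := C.cyc
  have hint : IsIntegralHom (pullback.fst u (Dm k zq)) :=
    MorphismProperty.pullback_fst _ _ C.int
  let e := sqZ.isoPullback
  have he : e.hom ≫ pullback.fst u (Dm k zq) = t := sqZ.isoPullback_hom_fst
  have H' : HC n (pullback.fst u (Dm k zq) ≫ p) := by
    rw [← he, Category.assoc] at H
    exact (hC_isIso_comp_iff e.hom _).1 H
  have e1 := @Wang.bijective_zero Z W K _ _ _ _ _ _ n (Groth.Agent.Sga4h.CycField.bc cd u) hint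
    p (EtCoh.const W (ZMod n)) (killedBy_const W n) H'
  exact ⟨(HHcongr (EtCore.pullConst p (ZMod n)).symm 0).trans (AddEquiv.ofBijective _ e1).symm⟩

end Cover

section Monoids

variable (A : Type) [AddCommMonoid A] (r : ℕ)

/-- First coordinate. -/
def c0 : A →+ (Fin (r + 1) → A) where
  toFun a := Fin.cons a 0
  map_zero' := by
    ext i
    refine Fin.cases ?_ (fun i => ?_) i <;> simp
  map_add' a b := by
    ext i
    refine Fin.cases ?_ (fun i => ?_) i <;> simp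

/-- The remaining coordinates. -/
def cs : (Fin r → A) →+ (Fin (r + 1) → A) where
  toFun x := Fin.cons 0 x
  map_zero' := by
    ext i
    refine Fin.cases ?_ (fun i => ?_) i <;> simp
  map_add' a b := by
    ext i
    refine Fin.cases ?_ (fun i => ?_) i <;> simp

theorem bij_cons : Function.Bijective (fun x : A × (Fin r → A) => c0 A r x.1 + cs A r x.2) := by
  have h : (fun x : A × (Fin r → A) => c0 A r x.1 + cs A r x.2) = fun x => Fin.cons x.1 x.2 := by
    funext x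
    ext i
    refine Fin.cases ?_ (fun i => ?_) i <;> simp [c0, cs]
  rw [h]
  refine ⟨fun x y hxy => ?_, fun z => ⟨(z 0, Fin.tail z), Fin.cons_self_tail z⟩⟩
  have h0 := congrFun hxy 0
  simp only [Fin.cons_zero] at h0
  refine Prod.ext h0 (funext fun i => ?_)
  have := congrFun hxy i.succ
  simpa using this

theorem bij_prod (B : Type) [AddCommMonoid B] :
    Function.Bijective (fun x : A × B => AddMonoidHom.inl A B x.1 + AddMonoidHom.inr A B x.2) := by
  have h : (fun x : A × B => AddMonoidHom.inl A B x.1 + AddMonoidHom.inr A B x.2) = id := by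
    funext x
    simp
  rw [h]
  exact Function.bijective_id

theorem bij_prod' (B : Type) [AddCommMonoid B] :
    Function.Bijective (fun x : B × A => AddMonoidHom.inr A B x.1 + AddMonoidHom.inl A B x.2) := by
  refine ⟨fun x y hxy => ?_, fun z => ⟨(z.2, z.1), ?_⟩⟩
  · simpa [Prod.ext_iff, and_comm] using hxy
  · simp

theorem bij_cons' : Function.Bijective (fun x : (Fin r → A) × A => cs A r x.1 + c0 A r x.2) := by
  have h : (fun x : (Fin r → A) × A => cs A r x.1 + c0 A r x.2) =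
      (fun x : A × (Fin r → A) => c0 A r x.1 + cs A r x.2) ∘ Prod.swap := by
    funext x
    simp [add_comm]
  rw [h]
  exact (bij_cons A r).comp Prod.swap_bijective

/-- `ℤ^r ⟶ ℚ^r`. -/
abbrev zqr : (Fin r → ℤ) →+ (Fin r → ℚ) := zq.compLeft (Fin r)

/-- `ℤ^(r+1) ⟶ ℚ × ℤ^r`. -/
def fz : (Fin (r + 1) → ℤ) →+ ℚ × (Fin r → ℤ) where
  toFun z := ((z 0 : ℚ), Fin.tail z)
  map_zero' := by
    refine Prod.ext (by simp) (funext fun i => by simp [Fin.tail])
  map_add' a b := by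
    refine Prod.ext (by simp) (funext fun i => by simp [Fin.tail])

/-- `ℚ × ℤ^r ⟶ ℚ^(r+1)`. -/
def gz : ℚ × (Fin r → ℤ) →+ (Fin (r + 1) → ℚ) where
  toFun z := Fin.cons z.1 (fun i => (z.2 i : ℚ))
  map_zero' := by
    ext i
    refine Fin.cases ?_ (fun i => ?_) i <;> simp
  map_add' a b := by
    ext i
    refine Fin.cases ?_ (fun i => ?_) i <;> simp

theorem gz_fz : (gz r).comp (fz r) = zqr (r + 1) := by
  ext z i
  refine Fin.cases ?_ (fun i => ?_) i <;> simp [gz, fz, Fin.tail]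

end Monoids

variable (k) in
/-- The first pullback square. -/
theorem sq1 (r : ℕ) : IsPullback (Dm k (fz r)) (Dm k (AddMonoidHom.inl ℚ (Fin r → ℤ)))
    (Dm k (c0 ℤ r)) (Dm k zq) := by
  refine isPullback_of_sum k zq (c0 ℤ r) (cs ℤ r) (AddMonoidHom.inl ℚ (Fin r → ℤ))
    (AddMonoidHom.inr ℚ (Fin r → ℤ)) (fz r) ?_ ?_ (bij_cons ℤ r) (bij_prod ℚ (Fin r → ℤ))
  · ext <;> simp [fz, c0]
  · ext z i <;> simp [fz, cs]

variable (k) in
/-- The second pullback square. -/
theorem sq2 (r : ℕ) : IsPullback (Dm k (gz r)) (Dm k (cs ℚ r))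
    (Dm k (AddMonoidHom.inr ℚ (Fin r → ℤ))) (Dm k (zqr r)) := by
  refine isPullback_of_sum k (zqr r) (AddMonoidHom.inr ℚ (Fin r → ℤ))
    (AddMonoidHom.inl ℚ (Fin r → ℤ)) (cs ℚ r) (c0 ℚ r) (gz r) ?_ ?_ (bij_prod' ℚ (Fin r → ℤ))
    (bij_cons' ℚ r)
  · ext z i
    refine Fin.cases ?_ (fun i => ?_) i <;> simp [gz, cs]
  · ext z i
    refine Fin.cases ?_ (fun i => ?_) i <;> simp [gz, c0]

/-- Functions on a disjoint union. -/
def sumArrow (a b : ℕ) (M : Type) [AddCommMonoid M] : (Fin (a + b) → M) ≃+ (Fin a → M) × (Fin b → M) :=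
  { (Equiv.arrowCongr finSumFinEquiv.symm (Equiv.refl M)).trans
      (Equiv.sumArrowEquivProdArrow (Fin a) (Fin b) M) with
    map_add' := fun _ _ => rfl }

theorem hpt_zero (k : Type u) [Field k] {n : ℕ} (h : HPt (Spec (CommRingCat.of k)) n) :
    HPt (D k (Fin 0 → ℤ)) n :=
  HPt.of_iso (asIso (str k (Fin 0 → ℤ))).symm h

variable [IsSepClosed k] (C : Ctx k n)
include C

/-- `D(ℚ × ℤ^r) ⟶ D(ℤ^r)` induces isomorphisms. -/
theorem hC_inr (r : ℕ) : HC n (Dm k (AddMonoidHom.inr ℚ (Fin r → ℤ))) :=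
  hC_baseChange (C.sm r) (str k ℚ) (Groth.Agent.Sga4h.BaseCase.acyc_point _ n C.hn C.hQ) _
    (Dm k (AddMonoidHom.inl ℚ (Fin r → ℤ)))
    (isPullback_str k (AddMonoidHom.inl ℚ (Fin r → ℤ)) (AddMonoidHom.inr ℚ (Fin r → ℤ))
      (bij_prod ℚ (Fin r → ℤ)))

theorem hC_step (r : ℕ) : HC n (Dm k (fz r) ≫ Dm k (cs ℤ r)) := by
  have h : (fz r).comp (cs ℤ r) = AddMonoidHom.inr ℚ (Fin r → ℤ) := by
    ext z i <;> simp [fz, cs]
  rw [Dm_comp, h]
  exact hC_inr C r

/-- The cohomology of `G_m^r`. -/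
theorem H_pow (hk : HPt (Spec (CommRingCat.of k)) n) (r : ℕ) : ∀ q : ℕ,
    Nonempty (HH (D k (Fin r → ℤ)) (EtCoh.const (D k (Fin r → ℤ)) (ZMod n)) q ≃+
      (Fin (r.choose q) → ZMod n)) := by
  induction r with
  | zero =>
    intro q
    obtain ⟨h1, ⟨e⟩⟩ := hpt_zero k hk
    cases q with
    | zero =>
      rw [Nat.choose_self]
      exact ⟨AddEquiv.trans e (AddEquiv.funUnique (Fin 1) (ZMod n)).symm⟩
    | succ q =>
      rw [Nat.choose_zero_succ]
      have : Subsingleton (HH (D k (Fin 0 → ℤ)) (EtCoh.const (D k (Fin 0 → ℤ)) (ZMod n)) (q + 1)) :=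
        h1 (q + 1) (Nat.succ_pos q)
      exact ⟨{ (0 : HH (D k (Fin 0 → ℤ)) (EtCoh.const (D k (Fin 0 → ℤ)) (ZMod n)) (q + 1) →+
        (Fin 0 → ZMod n)) with
        invFun := fun _ => 0
        left_inv := fun _ => Subsingleton.elim _ _
        right_inv := fun _ => Subsingleton.elim _ _ }⟩
  | succ r ih =>
    intro q
    cases q with
    | zero =>
      obtain ⟨e⟩ := nonempty_zero C (Dm k (c0 ℤ r)) (sq1 k r) (Dm k (cs ℤ r)) (hC_step C r)
      obtain ⟨e'⟩ := ih 0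
      rw [Nat.choose_zero_right] at e' ⊢
      exact ⟨AddEquiv.trans e e'⟩
    | succ q =>
      obtain ⟨e⟩ := nonempty_prod C (Dm k (c0 ℤ r)) (sq1 k r) (Dm k (cs ℤ r)) (hC_step C r) q
      obtain ⟨e1⟩ := ih (q + 1)
      obtain ⟨e2⟩ := ih q
      rw [show (r + 1).choose (q + 1) = r.choose (q + 1) + r.choose q from
        (Nat.choose_succ_succ r q).trans (Nat.add_comm _ _)]
      exact ⟨(AddEquiv.trans e (AddEquiv.prodCongr e1 e2)).trans (sumArrow _ _ _).symm⟩

/-- A scheme over `G_m^r` whose universal cover has the cohomology of a point has the cohomology of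
`G_m^r`. -/
theorem hC_pow (r : ℕ) : ∀ {Y Y' : Scheme.{u}} [IsAffine Y]
    (y : Y ⟶ D k (Fin r → ℤ)) (a : Y' ⟶ Y) (b : Y' ⟶ D k (Fin r → ℚ))
    (_ : IsPullback a b y (Dm k (zqr r))) (_ : HPt Y' n), HC n y := by
  induction r with
  | zero =>
    intro Y Y' _ y a b sq h
    have i1 : IsIso (Dm k (zqr 0)) := by
      have h1 : Dm k (zqr 0) ≫ str k (Fin 0 → ℤ) = str k (Fin 0 → ℚ) := Dm_str k _
      have h2 : IsIso (Dm k (zqr 0) ≫ str k (Fin 0 → ℤ)) := by
        rw [h1]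
        infer_instance
      exact IsIso.of_isIso_comp_right _ (str k (Fin 0 → ℤ))
    have i2 : IsIso a := by
      have : IsIso a := sq.isIso_fst_of_isIso
      exact this
    have h1 : HPt Y n := HPt.of_iso (asIso a) h
    have h2 : HC n (y ≫ str k (Fin 0 → ℤ)) := hC_of_hpt C.hn _ h1
    exact (hC_comp_iff _ _ (HC.of_isIso n _)).1 h2
  | succ r ih =>
    intro Y Y' _ y a b sq h
    have s1 := IsPullback.of_hasPullback y (Dm k (fz r))
    let a' : Y' ⟶ pullback y (Dm k (fz r)) := pullback.lift a (b ≫ Dm k (gz r)) (by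
      rw [sq.w, Category.assoc, Dm_comp, gz_fz])
    have s2 : IsPullback (pullback.lift a (b ≫ Dm k (gz r)) (by
      rw [sq.w, Category.assoc, Dm_comp, gz_fz])) b (pullback.snd y (Dm k (fz r))) (Dm k (gz r)) := by
      refine IsPullback.of_right ?_ (pullback.lift_snd _ _ _) s1
      rw [pullback.lift_fst, Dm_comp, gz_fz]
      exact sq
    have s3 := s2.paste_vert (sq2 k r)
    have i1 : IsAffine (pullback y (Dm k (fz r))) :=
      isAffine_of_isAffineHom (pullback.fst y (Dm k (fz r)))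
    have h1 := ih _ _ _ s3 h
    have h2 := (hC_comp_iff _ _ (hC_inr C r)).1 h1
    exact descent_hC C (Dm k (c0 ℤ r)) (sq1 k r) y (pullback.fst y (Dm k (fz r)))
      (pullback.snd y (Dm k (fz r))) s1.flip h2

end Groth.Agent.Sga7.H763.GmPow
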