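import Groth.Agent.Sga7.H763.HIso
import Groth.Agent.EtpbcB.HpullKill
import Groth.Agent.EtpbcB.BCIso
import Groth.Agent.Etrest.HPush
import Groth.Agent.EtpbcA.LAUnit
import Groth.Agent.Sga4B.AcycMor
import Groth.Agent.EtpbcB.StrictLocStar
import Groth.Agent.EtpbcB.IntegralDegZero

/-!
# Base change for `n`-torsion sheaves

`Bcn n g` : base change along `g` holds for all qcqs morphisms and all sheaves killed by `n`, in the weak
form: degree `0`, and acyclicity is preserved.

* `Bcn.comp`;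
* `hIsom_baseChange`: if `Bcn n e` and `e` induces isomorphisms on cohomology for all sheaves killed by `n`,
  then so does every base change of `e` along a qcqs morphism;
* `hC_baseChange`.
-/

set_option autoImplicit false
set_option backward.isDefEq.respectTransparency.types false
universe u

open CategoryTheory CategoryTheory.Limits AlgebraicGeometry Opposite Abelian
open scoped Groth.Agent.Etcore.EtInst
open Groth.Agent.Etcore.EtInst

namespace Groth.Agent.Sga7.H763.BCn

open Groth.Agent.Etcore Groth.Agent.Etcore.HpullCalc HIso EtCoh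
open Groth.Agent.EtpbcB Groth.Agent.EtpbcB.NKill Groth.Agent.EtpbcB.NKillEt
open Groth.Agent.EtpbcB.BCIso Groth.Agent.EtpbcB.BCCalc

variable {P P' P'' : Scheme.{u}}

/-- Base change along `g` for sheaves killed by `n`. -/
def Bcn (n : ℕ) (g : P' ⟶ P) : Prop :=
  ∀ ⦃X X' : Scheme.{u}⦄ (f : X ⟶ P) [QuasiCompact f] [QuasiSeparated f] (f' : X' ⟶ P') (g' : X' ⟶ X)
    (sq : IsPullback g' f' f g) (F : EtCoh.Ab X), EtCoh.KilledBy n F →
      IsIso (EtCoh.baseChange0 f g f' g' sq.w F) ∧
        ((∀ q : ℕ, 0 < q → IsZero ((EtCoh.Rpush f q).obj F)) →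
          ∀ q : ℕ, 0 < q → IsZero ((EtCoh.Rpush f' q).obj ((EtCoh.pull g').obj F)))

theorem Bcn.comp {n : ℕ} {h : P'' ⟶ P'} {g : P' ⟶ P} (hh : Bcn n h) (hg : Bcn n g) :
    Bcn n (h ≫ g) := by
  intro X X'' f _ _ f'' k' sq F hF
  have sq1 := IsPullback.of_hasPullback f g
  let h' : X'' ⟶ pullback f g := pullback.lift k' (f'' ≫ h) (by rw [sq.w, Category.assoc])
  have e1 : h' ≫ pullback.fst f g = k' := pullback.lift_fst _ _ _
  have e2 : h' ≫ pullback.snd f g = f'' ≫ h := pullback.lift_snd _ _ _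
  have sq2 : IsPullback h' f'' (pullback.snd f g) h := by
    refine IsPullback.of_right ?_ e2 sq1
    rw [e1]
    exact sq
  have h1 := hg f (pullback.snd f g) (pullback.fst f g) sq1 F hF
  have h2 := hh (pullback.snd f g) f'' h' sq2 ((EtCoh.pull (pullback.fst f g)).obj F) (killedBy_pull _ hF)
  constructor
  · have i1 := h1.1
    have i2 := h2.1
    exact IntegralDegZero.isIso_hpaste_eq sq1.w sq2.w rfl e1 sq.w F inferInstance i2
  · intro h0 q hq
    refine (h2.2 (h1.2 h0) q hq).of_iso ((EtCoh.Rpush f'' q).mapIso ?_)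
    exact (EtCore.pullCongr e1.symm).app F ≪≫ (EtCore.pullComp h' (pullback.fst f g)).app F

/-- The unit of the base change of `e` on global sections. -/
theorem bijAt_unit {n : ℕ} {E E' W : Scheme.{u}} {e : E ⟶ P} (he : ∀ G : EtCoh.Ab P,
    EtCoh.KilledBy n G → HIsom e G) (w : W ⟶ P) (w' : E' ⟶ E) (e' : E' ⟶ W)
    (sq : e' ≫ w = w' ≫ e) (F : EtCoh.Ab W) (hF : EtCoh.KilledBy n F)
    (h0 : IsIso (EtCoh.baseChange0 w e w' e' sq F)) :
    BijAt ((EtCoh.pullPushAdj e').unit.app F) (EtCoh.top W) := by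
  rw [← bijAt_push_top w]
  have h1 := unit_baseChange0 sq F
  have h2 : BijAt ((EtCoh.pullPushAdj e).unit.app ((EtCoh.push w).obj F)) (EtCoh.top P) :=
    (bijective_unitSec_iff e _).1 ((bijective_hp_zero_iff e _).1 (he _ (killedBy_push w hF) 0))
  have h3 : BijAt ((EtCoh.push w).map ((EtCoh.pullPushAdj e').unit.app F) ≫
      (BCCalc.sq sq).hom.app ((EtCoh.pull e').obj F)) (EtCoh.top P) := by
    rw [← h1]
    exact bijAt_comp _ _ _ h2 (bijAt_of_isIso _ _)
  rw [bijAt_iff_isIso] at h3 ⊢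
  have h4 : IsIso (((EtCoh.push w).map ((EtCoh.pullPushAdj e').unit.app F)).hom.app
      (op (EtCoh.top P)) ≫ ((BCCalc.sq sq).hom.app ((EtCoh.pull e').obj F)).hom.app
        (op (EtCoh.top P))) := h3
  exact IsIso.of_isIso_comp_right (((EtCoh.push w).map ((EtCoh.pullPushAdj e').unit.app F)).hom.app _)
    (((BCCalc.sq sq).hom.app ((EtCoh.pull e').obj F)).hom.app (op (EtCoh.top P)))

/-- **Universality**: if base change holds along `e` and `e` induces isomorphisms on cohomology for all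
sheaves killed by `n`, so does every qcqs base change of `e`. -/
theorem hIsom_baseChange {n : ℕ} (hn : 0 < n) {E E' W : Scheme.{u}} {e : E ⟶ P} (hbc : Bcn n e)
    (he : ∀ G : EtCoh.Ab P, EtCoh.KilledBy n G → HIsom e G) (w : W ⟶ P) [QuasiCompact w]
    [QuasiSeparated w] (w' : E' ⟶ E) (e' : E' ⟶ W) (sq : IsPullback e' w' w e) (F : EtCoh.Ab W)
    (hF : EtCoh.KilledBy n F) : HIsom e' F := by
  intro q
  refine HpullKill.bijective_cmp e' hn ?_ ?_ F hF q
  · intro G hG
    exact bijAt_unit he w w' e' sq.w G hG (hbc w w' e' sq G hG).1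
  · intro J _ q
    have hk : EtCoh.KilledBy n (tor n J) := (killedBy_iff n _).2 (killed_tor n J)
    have hz : ∀ q : ℕ, 0 < q → IsZero ((EtCoh.Rpush w q).obj (tor n J)) := fun q hq =>
      acyclic_push_tor w J hn q hq
    have h1 := hbc w w' e' sq (tor n J) hk
    have i1 := h1.1
    obtain ⟨i2⟩ := Etrest.HPush.nonempty_HPushEquiv w' _ (h1.2 hz) (q + 1)
    obtain ⟨i3⟩ := Etrest.HPush.nonempty_HPushEquiv w _ hz (q + 1)
    have s1 : Subsingleton (EtCoh.H W (tor n J) (q + 1)) := NKillH.H_tor J hn (q + 1) (Nat.succ_pos q)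
    have s2 : Subsingleton (EtCoh.H P ((EtCoh.push w).obj (tor n J)) (q + 1)) :=
      i3.symm.injective.subsingleton
    have s3 : Subsingleton (EtCoh.H E ((EtCoh.pull e).obj ((EtCoh.push w).obj (tor n J))) (q + 1)) :=
      (he _ (killedBy_push w hk) (q + 1)).2.subsingleton
    have s4 : Subsingleton (EtCoh.H E ((EtCoh.push w').obj ((EtCoh.pull e').obj (tor n J))) (q + 1)) := by
      have h2 := HHmap_bijective (EtCoh.baseChange0 w e w' e' sq.w (tor n J)) (q + 1)
      exact h2.2.subsingleton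
    exact i2.injective.subsingleton

end Groth.Agent.Sga7.H763.BCn
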