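import Mathlib.Algebra.MonoidAlgebra.Basic
import Mathlib.AlgebraicGeometry.Limits
import Mathlib.AlgebraicGeometry.Morphisms.Affine
import Mathlib.AlgebraicGeometry.Pullbacks
import Mathlib.Algebra.Category.Ring.Constructions

/-!
# Spectra of monoid algebras

`D k M = Spec k[M]` for a commutative additive monoid `M`, contravariant in `M` (`Dm`), with the structure
morphism `str k M : D k M ⟶ Spec k`.

* `isPullback_of_sum`: `D` of `M ⊕ N ⟶ M' ⊕ N` is the base change of `D` of `M ⟶ M'`;
* `isPullback_str`: `D (M ⊕ N) = D M × D N`.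
-/

set_option autoImplicit false
universe u

open CategoryTheory CategoryTheory.Limits AlgebraicGeometry

namespace Groth.Agent.Sga7.H763.Dia

variable (k : Type u) [Field k]

section Ring

variable {S : Type*} [CommRing S] {M : Type} [AddCommMonoid M]

/-- Ring homomorphisms out of a monoid algebra. -/
noncomputable def mk (c : k →+* S) (χ : Multiplicative M →* S) : AddMonoidAlgebra k M →+* S :=
  AddMonoidAlgebra.liftNCRingHom c χ (fun _ _ => Commute.all _ _)

@[simp] theorem mk_single (c : k →+* S) (χ : Multiplicative M →* S) (m : M) (r : k) :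
    mk k c χ (AddMonoidAlgebra.single m r) = c r * χ (Multiplicative.ofAdd m) :=
  AddMonoidAlgebra.liftNC_single _ _ _ _

variable {k}

theorem hom_ext' {f g : AddMonoidAlgebra k M →+* S}
    (h0 : ∀ r, f (AddMonoidAlgebra.single 0 r) = g (AddMonoidAlgebra.single 0 r))
    (h1 : ∀ m, f (AddMonoidAlgebra.single m 1) = g (AddMonoidAlgebra.single m 1)) : f = g :=
  AddMonoidAlgebra.ringHom_ext h0 h1

/-- The constants. -/
noncomputable def cst (f : AddMonoidAlgebra k M →+* S) : k →+* S :=
  f.comp (algebraMap k (AddMonoidAlgebra k M))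

/-- The character. -/
noncomputable def chr (f : AddMonoidAlgebra k M →+* S) : Multiplicative M →* S :=
  (f : AddMonoidAlgebra k M →* S).comp (AddMonoidAlgebra.of k M)

theorem cst_apply (f : AddMonoidAlgebra k M →+* S) (r : k) :
    cst f r = f (AddMonoidAlgebra.single 0 r) := rfl

theorem chr_apply (f : AddMonoidAlgebra k M →+* S) (m : M) :
    chr f (Multiplicative.ofAdd m) = f (AddMonoidAlgebra.single m 1) := rfl

theorem mk_cst_chr (f : AddMonoidAlgebra k M →+* S) : mk k (cst f) (chr f) = f := by
  apply hom_ext'
  · intro r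
    rw [mk_single, cst_apply, ofAdd_zero, map_one, mul_one]
  · intro m
    rw [mk_single, chr_apply, cst_apply]
    have : (AddMonoidAlgebra.single 0 1 : AddMonoidAlgebra k M) = 1 := rfl
    rw [this, map_one, one_mul]

end Ring

variable (M : Type) [AddCommMonoid M]

/-- `Spec k[M]`. -/
noncomputable def D : Scheme.{u} := Spec (CommRingCat.of (AddMonoidAlgebra k M))

/-- The structure morphism. -/
noncomputable def str : D k M ⟶ Spec (CommRingCat.of k) :=
  Spec.map (CommRingCat.ofHom (algebraMap k (AddMonoidAlgebra k M)))

instance : IsAffine (D k M) := by unfold D; infer_instance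
instance : IsAffineHom (str k M) := by unfold str D; infer_instance

variable {M} {M' M'' N P P' : Type} [AddCommMonoid M'] [AddCommMonoid M''] [AddCommMonoid N]
  [AddCommMonoid P] [AddCommMonoid P']

/-- The map of rings attached to a homomorphism of monoids. -/
noncomputable def rm (f : M →+ M') : AddMonoidAlgebra k M →+* AddMonoidAlgebra k M' :=
  AddMonoidAlgebra.mapDomainRingHom k f

@[simp] theorem rm_single (f : M →+ M') (m : M) (r : k) :
    rm k f (AddMonoidAlgebra.single m r) = AddMonoidAlgebra.single (f m) r := by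
  simp [rm]

theorem rm_id : rm k (AddMonoidHom.id M) = RingHom.id _ := by
  apply hom_ext' <;> simp

theorem rm_comp (g : M' →+ M'') (f : M →+ M') : rm k (g.comp f) = (rm k g).comp (rm k f) := by
  apply hom_ext' <;> simp

theorem rm_algebraMap (f : M →+ M') : (rm k f).comp (algebraMap k (AddMonoidAlgebra k M)) =
    algebraMap k (AddMonoidAlgebra k M') := by
  refine RingHom.ext fun r => ?_
  change rm k f (AddMonoidAlgebra.single 0 r) = AddMonoidAlgebra.single 0 r
  rw [rm_single, map_zero]

/-- The morphism of schemes attached to a homomorphism of monoids. -/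
noncomputable def Dm (f : M →+ M') : D k M' ⟶ D k M := Spec.map (CommRingCat.ofHom (rm k f))

instance (f : M →+ M') : IsAffineHom (Dm k f) := by unfold Dm D; infer_instance

theorem Dm_id : Dm k (AddMonoidHom.id M) = 𝟙 _ := by
  rw [Dm, rm_id]
  exact Spec.map_id _

@[reassoc]
theorem Dm_comp (g : M' →+ M'') (f : M →+ M') : Dm k g ≫ Dm k f = Dm k (g.comp f) := by
  rw [Dm, Dm, Dm, rm_comp, CommRingCat.ofHom_comp]
  exact (Spec.map_comp _ _).symm

@[reassoc (attr := simp)]
theorem Dm_str (f : M →+ M') : Dm k f ≫ str k M = str k M' := by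
  rw [Dm, str, str, ← rm_algebraMap k f, CommRingCat.ofHom_comp]
  exact (Spec.map_comp _ _).symm

/-- `D` of an isomorphism. -/
noncomputable def Diso (e : M ≃+ M') : D k M' ≅ D k M where
  hom := Dm k e.toAddMonoidHom
  inv := Dm k e.symm.toAddMonoidHom
  hom_inv_id := by
    rw [Dm_comp, ← Dm_id]
    congr 1
    ext x
    exact e.apply_symm_apply x
  inv_hom_id := by
    rw [Dm_comp, ← Dm_id]
    congr 1
    ext x
    exact e.symm_apply_apply x

/-- Every additive monoid homomorphism into a commutative ring's multiplicative monoid, from a direct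
sum decomposition. -/
theorem exists_char {S : Type*} [CommRing S] (a : M →+ P) (b : N →+ P)
    (hP : Function.Bijective (fun x : M × N => a x.1 + b x.2)) (χ : Multiplicative M →* S)
    (ψ : Multiplicative N →* S) :
    ∃ ω : Multiplicative P →* S, (∀ m, ω (Multiplicative.ofAdd (a m)) = χ (Multiplicative.ofAdd m)) ∧
      ∀ n, ω (Multiplicative.ofAdd (b n)) = ψ (Multiplicative.ofAdd n) := by
  let e : M × N ≃+ P := AddEquiv.ofBijective (AddMonoidHom.coprod a b) hP
  have he : ∀ x : M × N, e x = a x.1 + b x.2 := fun _ => rfl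
  let ω : Multiplicative P →* S :=
    { toFun := fun p => χ (Multiplicative.ofAdd (e.symm p.toAdd).1) *
        ψ (Multiplicative.ofAdd (e.symm p.toAdd).2)
      map_one' := by
        simp
      map_mul' := by
        intro p q
        rw [toAdd_mul, map_add, Prod.fst_add, Prod.snd_add, ofAdd_add, ofAdd_add, map_mul, map_mul]
        ring }
  have hω : ∀ x : M × N, ω (Multiplicative.ofAdd (e x)) =
      χ (Multiplicative.ofAdd x.1) * ψ (Multiplicative.ofAdd x.2) := by
    intro x
    change χ (Multiplicative.ofAdd (e.symm (e x)).1) * ψ (Multiplicative.ofAdd (e.symm (e x)).2) = _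
    rw [e.symm_apply_apply]
  refine ⟨ω, fun m => ?_, fun n => ?_⟩
  · have := hω (m, 0)
    rw [he] at this
    simpa using this
  · have := hω (0, n)
    rw [he] at this
    simpa using this

theorem char_ext {S : Type*} [CommRing S] (a : M →+ P) (b : N →+ P)
    (hP : Function.Bijective (fun x : M × N => a x.1 + b x.2)) (f g : AddMonoidAlgebra k P →+* S)
    (h1 : f.comp (rm k a) = g.comp (rm k a)) (h2 : f.comp (rm k b) = g.comp (rm k b)) : f = g := by
  have ha : ∀ m, f (AddMonoidAlgebra.single (a m) 1) = g (AddMonoidAlgebra.single (a m) 1) := by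
    intro m
    have := RingHom.congr_fun h1 (AddMonoidAlgebra.single m 1)
    simpa using this
  have hb : ∀ m, f (AddMonoidAlgebra.single (b m) 1) = g (AddMonoidAlgebra.single (b m) 1) := by
    intro m
    have := RingHom.congr_fun h2 (AddMonoidAlgebra.single m 1)
    simpa using this
  apply hom_ext'
  · intro r
    have := RingHom.congr_fun h1 (AddMonoidAlgebra.single 0 r)
    simpa using this
  · intro p
    obtain ⟨⟨m, n⟩, rfl⟩ := hP.2 p
    have : (AddMonoidAlgebra.single (a m + b n) 1 : AddMonoidAlgebra k P) =
        AddMonoidAlgebra.single (a m) 1 * AddMonoidAlgebra.single (b n) 1 := by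
      rw [AddMonoidAlgebra.single_mul_single, one_mul]
    change f (AddMonoidAlgebra.single (a m + b n) 1) = g (AddMonoidAlgebra.single (a m + b n) 1)
    rw [this, map_mul, map_mul, ha, hb]

/-- The pushout square of monoid algebras. -/
theorem isPushout_of_sum (f : M →+ M') (a : M →+ P) (b : N →+ P) (a' : M' →+ P') (b' : N →+ P')
    (F : P →+ P') (h1 : F.comp a = a'.comp f) (h2 : F.comp b = b')
    (hP : Function.Bijective (fun x : M × N => a x.1 + b x.2))
    (hP' : Function.Bijective (fun x : M' × N => a' x.1 + b' x.2)) :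
    IsPushout (CommRingCat.ofHom (rm k a)) (CommRingCat.ofHom (rm k f))
      (CommRingCat.ofHom (rm k F)) (CommRingCat.ofHom (rm k a')) := by
  have w : CommRingCat.ofHom (rm k a) ≫ CommRingCat.ofHom (rm k F) =
      CommRingCat.ofHom (rm k f) ≫ CommRingCat.ofHom (rm k a') := by
    rw [← CommRingCat.ofHom_comp, ← CommRingCat.ofHom_comp, ← rm_comp, ← rm_comp, h1]
  refine ⟨⟨w⟩, ⟨PushoutCocone.IsColimit.mk w ?_ ?_ ?_ ?_⟩⟩
  · intro s
    exact CommRingCat.ofHom (mk k (cst s.inr.hom)
      (exists_char a' b' hP' (chr s.inr.hom) (chr (s.inl.hom.comp (rm k b)))).choose)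
  all_goals
    intro s
  · have hs : s.inl.hom.comp (rm k a) = s.inr.hom.comp (rm k f) :=
      congrArg CommRingCat.Hom.hom s.condition
    have hc := (exists_char a' b' hP' (chr s.inr.hom) (chr (s.inl.hom.comp (rm k b)))).choose_spec
    set ω := (exists_char a' b' hP' (chr s.inr.hom) (chr (s.inl.hom.comp (rm k b)))).choose
    apply CommRingCat.hom_ext
    apply char_ext k a b hP
    · change ((mk k (cst s.inr.hom) ω).comp (rm k F)).comp (rm k a) = _
      rw [RingHom.comp_assoc, ← rm_comp, h1, rm_comp, ← RingHom.comp_assoc, hs]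
      congr 1
      apply hom_ext'
      · intro r
        change mk k (cst s.inr.hom) ω (rm k a' _) = _
        rw [rm_single, map_zero, mk_single, ofAdd_zero, map_one, mul_one]
        rfl
      · intro m
        change mk k (cst s.inr.hom) ω (rm k a' _) = _
        rw [rm_single, mk_single, map_one, one_mul, hc.1]
        rfl
    · change ((mk k (cst s.inr.hom) ω).comp (rm k F)).comp (rm k b) = _
      rw [RingHom.comp_assoc, ← rm_comp, h2]
      apply hom_ext'
      · intro r
        change mk k (cst s.inr.hom) ω (rm k b' _) = s.inl.hom (rm k b _)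
        rw [rm_single, map_zero, mk_single, ofAdd_zero, map_one, mul_one, rm_single, map_zero]
        have := RingHom.congr_fun hs (AddMonoidAlgebra.single 0 r)
        simp only [RingHom.comp_apply, rm_single, map_zero] at this
        exact this.symm
      · intro m
        change mk k (cst s.inr.hom) ω (rm k b' _) = s.inl.hom (rm k b _)
        rw [rm_single, mk_single, map_one, one_mul, hc.2, rm_single]
        exact congrArg s.inl.hom (rm_single k b m 1)
  · have hc := (exists_char a' b' hP' (chr s.inr.hom) (chr (s.inl.hom.comp (rm k b)))).choose_spec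
    set ω := (exists_char a' b' hP' (chr s.inr.hom) (chr (s.inl.hom.comp (rm k b)))).choose
    apply CommRingCat.hom_ext
    apply hom_ext'
    · intro r
      change mk k (cst s.inr.hom) ω (rm k a' _) = _
      rw [rm_single, map_zero, mk_single, ofAdd_zero, map_one, mul_one]
      rfl
    · intro m
      change mk k (cst s.inr.hom) ω (rm k a' _) = _
      rw [rm_single, mk_single, map_one, one_mul, hc.1]
      rfl
  · intro m hm1 hm2
    have hs : s.inl.hom.comp (rm k a) = s.inr.hom.comp (rm k f) :=
      congrArg CommRingCat.Hom.hom s.condition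
    have hm1' : m.hom.comp (rm k F) = s.inl.hom := congrArg CommRingCat.Hom.hom hm1
    have hm2' : m.hom.comp (rm k a') = s.inr.hom := congrArg CommRingCat.Hom.hom hm2
    have hc := (exists_char a' b' hP' (chr s.inr.hom) (chr (s.inl.hom.comp (rm k b)))).choose_spec
    set ω := (exists_char a' b' hP' (chr s.inr.hom) (chr (s.inl.hom.comp (rm k b)))).choose
    apply CommRingCat.hom_ext
    apply char_ext k a' b' hP'
    · rw [hm2']
      apply hom_ext'
      · intro r
        change _ = mk k (cst s.inr.hom) ω (rm k a' _)
        rw [rm_single, map_zero, mk_single, ofAdd_zero, map_one, mul_one]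
        rfl
      · intro m
        change _ = mk k (cst s.inr.hom) ω (rm k a' _)
        rw [rm_single, mk_single, map_one, one_mul, hc.1]
        rfl
    · rw [← h2, rm_comp, ← RingHom.comp_assoc, hm1']
      apply hom_ext'
      · intro r
        change s.inl.hom (rm k b _) = mk k (cst s.inr.hom) ω (rm k F (rm k b _))
        rw [rm_single, map_zero, rm_single, map_zero, mk_single, ofAdd_zero, map_one, mul_one]
        have := RingHom.congr_fun hs (AddMonoidAlgebra.single 0 r)
        simp only [RingHom.comp_apply, rm_single, map_zero] at this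
        exact this
      · intro n
        change s.inl.hom (rm k b _) = mk k (cst s.inr.hom) ω (rm k F (rm k b _))
        rw [rm_single, rm_single, ← AddMonoidHom.comp_apply F b, h2, mk_single, map_one, one_mul, hc.2]
        exact (congrArg s.inl.hom (rm_single k b n 1)).symm

/-- `D` of `M ⊕ N ⟶ M' ⊕ N` is the base change of `D` of `M ⟶ M'`. -/
theorem isPullback_of_sum (f : M →+ M') (a : M →+ P) (b : N →+ P) (a' : M' →+ P') (b' : N →+ P')
    (F : P →+ P') (h1 : F.comp a = a'.comp f) (h2 : F.comp b = b')
    (hP : Function.Bijective (fun x : M × N => a x.1 + b x.2))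
    (hP' : Function.Bijective (fun x : M' × N => a' x.1 + b' x.2)) :
    IsPullback (Dm k F) (Dm k a') (Dm k a) (Dm k f) :=
  isPullback_SpecMap_of_isPushout _ _ _ _ (isPushout_of_sum k f a b a' b' F h1 h2 hP hP')

/-- `D (M ⊕ N) = D M × D N`. -/
theorem isPullback_str (a : M →+ P) (b : N →+ P)
    (hP : Function.Bijective (fun x : M × N => a x.1 + b x.2)) :
    IsPullback (Dm k a) (Dm k b) (str k M) (str k N) := by
  refine isPullback_SpecMap_of_isPushout _ _ _ _ ?_
  have w : CommRingCat.ofHom (algebraMap k (AddMonoidAlgebra k M)) ≫ CommRingCat.ofHom (rm k a) =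
      CommRingCat.ofHom (algebraMap k (AddMonoidAlgebra k N)) ≫ CommRingCat.ofHom (rm k b) := by
    rw [← CommRingCat.ofHom_comp, ← CommRingCat.ofHom_comp, rm_algebraMap, rm_algebraMap]
  refine ⟨⟨w⟩, ⟨PushoutCocone.IsColimit.mk w ?_ ?_ ?_ ?_⟩⟩
  · intro s
    exact CommRingCat.ofHom (mk k (cst s.inl.hom)
      (exists_char a b hP (chr s.inl.hom) (chr s.inr.hom)).choose)
  all_goals
    intro s
    have hs : ∀ r, s.inl.hom (AddMonoidAlgebra.single 0 r) = s.inr.hom (AddMonoidAlgebra.single 0 r) :=
      fun r => RingHom.congr_fun (congrArg CommRingCat.Hom.hom s.condition) r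
    have hc := (exists_char a b hP (chr s.inl.hom) (chr s.inr.hom)).choose_spec
    set ω := (exists_char a b hP (chr s.inl.hom) (chr s.inr.hom)).choose
    have ea : (mk k (cst s.inl.hom) ω).comp (rm k a) = s.inl.hom := by
      apply hom_ext'
      · intro r
        change mk k (cst s.inl.hom) ω (rm k a _) = _
        rw [rm_single, map_zero, mk_single, ofAdd_zero, map_one, mul_one]
        rfl
      · intro m
        change mk k (cst s.inl.hom) ω (rm k a _) = _
        rw [rm_single, mk_single, map_one, one_mul, hc.1]
        rfl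
    have eb : (mk k (cst s.inl.hom) ω).comp (rm k b) = s.inr.hom := by
      apply hom_ext'
      · intro r
        change mk k (cst s.inl.hom) ω (rm k b _) = _
        rw [rm_single, map_zero, mk_single, ofAdd_zero, map_one, mul_one]
        exact hs r
      · intro m
        change mk k (cst s.inl.hom) ω (rm k b _) = _
        rw [rm_single, mk_single, map_one, one_mul, hc.2]
        rfl
  · apply CommRingCat.hom_ext
    exact ea
  · apply CommRingCat.hom_ext
    exact eb
  · intro m hm1 hm2
    have hm1' : m.hom.comp (rm k a) = s.inl.hom := congrArg CommRingCat.Hom.hom hm1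
    have hm2' : m.hom.comp (rm k b) = s.inr.hom := congrArg CommRingCat.Hom.hom hm2
    apply CommRingCat.hom_ext
    apply char_ext k a b hP
    · exact hm1'.trans ea.symm
    · exact hm2'.trans eb.symm

variable (M) in
/-- `D 0 = Spec k`. -/
instance isIso_str [Subsingleton M] : IsIso (str k M) := by
  let f : AddMonoidAlgebra k M →+* k := mk k (RingHom.id k) 1
  have h1 : f.comp (algebraMap k (AddMonoidAlgebra k M)) = RingHom.id k := by
    refine RingHom.ext fun r => ?_
    change mk k (RingHom.id k) 1 (AddMonoidAlgebra.single 0 r) = r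
    rw [mk_single, MonoidHom.one_apply, mul_one, RingHom.id_apply]
  have h2 : (algebraMap k (AddMonoidAlgebra k M)).comp f = RingHom.id _ := by
    apply hom_ext'
    · intro r
      change AddMonoidAlgebra.single 0 (mk k (RingHom.id k) 1 (AddMonoidAlgebra.single 0 r)) = _
      rw [mk_single, MonoidHom.one_apply, mul_one, RingHom.id_apply]
      rfl
    · intro m
      change AddMonoidAlgebra.single 0 (mk k (RingHom.id k) 1 (AddMonoidAlgebra.single m 1)) = _
      rw [mk_single, MonoidHom.one_apply, mul_one, RingHom.id_apply, Subsingleton.elim m 0]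
      rfl
  refine ⟨Spec.map (CommRingCat.ofHom f), ?_, ?_⟩
  · exact (Spec.map_comp (CommRingCat.ofHom f) (CommRingCat.ofHom (algebraMap k _))).symm.trans
      ((congrArg (fun z => Spec.map (CommRingCat.ofHom z)) h2).trans (Spec.map_id _))
  · exact (Spec.map_comp (CommRingCat.ofHom (algebraMap k _)) (CommRingCat.ofHom f)).symm.trans
      ((congrArg (fun z => Spec.map (CommRingCat.ofHom z)) h1).trans (Spec.map_id _))

end Groth.Agent.Sga7.H763.Dia
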