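import Groth.Agent.Sga7.H763.Assemble
import Groth.Agent.Sga7.H111.NormalForm
import Groth.Agent.Sga7.H431.CoeffField
import Groth.Agent.S3125
import Groth.Prelude.Def_SGA7I

/-!
# The nearby fibre at a point of a normal crossings special fibre (equal characteristic zero)
-/

set_option autoImplicit false
set_option backward.isDefEq.respectTransparency.types false
universe u

open CategoryTheory CategoryTheory.Limits AlgebraicGeometry Opposite IsLocalRing

namespace Groth.Agent.Sga7.H763.Final

open Tower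

theorem ula {k : Type u} [Field k] [CharZero k] (n : ℕ) (hn : n ≠ 0) : Ula k n :=
  fun _ _ _ F hF => Groth.Agent.S3125.result k n (Nat.cast_ne_zero.2 hn) _ F hF

/-- The homomorphism from the base to the local ring of a point of the closed fibre. -/
theorem exists_alpha {V : Type u} [CommRing V] [IsLocalRing V] {X : Scheme.{u}}
    (f : X ⟶ Spec (CommRingCat.of V)) (x : X) (hx : f.base x = closedPoint V) :
    ∃ α : V →+* X.presheaf.stalk x, Spec.map (CommRingCat.ofHom α) = X.fromSpecStalk x ≫ f ∧
      IsLocalHom α ∧ Ideal.map α (maximalIdeal V) = Ideal.map (f.stalkMap x).hom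
        (maximalIdeal ((Spec (CommRingCat.of V)).presheaf.stalk (f.base x))) := by
  let τ : V →+* (Spec (CommRingCat.of V)).presheaf.stalk (f.base x) :=
    (StructureSheaf.toStalk V (f.base x)).hom
  have h1 : Spec.map (CommRingCat.ofHom ((f.stalkMap x).hom.comp τ)) = X.fromSpecStalk x ≫ f := by
    rw [← Scheme.SpecMap_stalkMap_fromSpecStalk, Spec.fromSpecStalk_eq', CommRingCat.ofHom_comp,
      Spec.map_comp]
    rfl
  let _ : Algebra V ((Spec (CommRingCat.of V)).presheaf.stalk (f.base x)) := τ.toAlgebra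
  have hloc : IsLocalization.AtPrime ((Spec (CommRingCat.of V)).presheaf.stalk (f.base x))
      (f.base x).asIdeal := StructureSheaf.IsLocalization.to_stalk V (f.base x)
  have hmax : Ideal.map τ (maximalIdeal V) =
      maximalIdeal ((Spec (CommRingCat.of V)).presheaf.stalk (f.base x)) := by
    have h2 : (f.base x).asIdeal = maximalIdeal V := by rw [hx]; rfl
    have h3 := IsLocalization.AtPrime.map_eq_maximalIdeal (f.base x).asIdeal
      ((Spec (CommRingCat.of V)).presheaf.stalk (f.base x))
    rw [← h2]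
    exact h3
  refine ⟨(f.stalkMap x).hom.comp τ, h1, ?_, ?_⟩
  · have i1 : IsLocalHom τ := by
      refine ((IsLocalRing.local_hom_TFAE τ).out 0 2).2 ?_
      rw [hmax]
    infer_instance
  · rw [← Ideal.map_map, hmax]

theorem gcd_equiv {C D : Type} [Fintype C] [Fintype D] (e : D ≃ C) (m : C → ℕ) :
    Finset.univ.gcd (fun i => m (e i)) = Finset.univ.gcd m := by
  apply Nat.dvd_antisymm
  · refine Finset.dvd_gcd fun i _ => ?_
    have := Finset.gcd_dvd (f := fun i => m (e i)) (Finset.mem_univ (e.symm i))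
    rwa [e.apply_symm_apply] at this
  · exact Finset.dvd_gcd fun i _ => Finset.gcd_dvd (Finset.mem_univ (e i))

theorem final (V K Ω : Type u) [CommRing V] [IsDomain V]
    [IsDiscreteValuationRing V] [HenselianLocalRing V] [IsSepClosed (IsLocalRing.ResidueField V)]
    [CharZero (IsLocalRing.ResidueField V)] [Field K] [Algebra V K] [IsFractionRing V K]
    [Field Ω] [Algebra K Ω] [IsSepClosure K Ω] [Algebra V Ω] [IsScalarTower V K Ω]
    {X : Scheme.{u}} (f : X ⟶ Spec (CommRingCat.of V)) (x : X) (hx : f.base x = closedPoint V)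
    (hreg : IsRegularLocalRing (X.presheaf.stalk x)) {C : Type} [Fintype C] (m : C → ℕ)
    (hm : ∀ i, 0 < m i) (t : C → X.presheaf.stalk x) (d : ℕ) (s : Fin d → X.presheaf.stalk x)
    (hspan : Ideal.span (Set.range t ∪ Set.range s) = maximalIdeal (X.presheaf.stalk x))
    (hdim : ((Nat.card C + d : ℕ) : WithBot ℕ∞) = ringKrullDim (X.presheaf.stalk x))
    (hprod : Ideal.map (f.stalkMap x).hom
      (maximalIdeal ((Spec (CommRingCat.of V)).presheaf.stalk (f.base x))) =
        Ideal.span {∏ i, t i ^ m i})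
    (Osh : Type u) [CommRing Osh] [IsLocalRing Osh] [Algebra (X.presheaf.stalk x) Osh]
    [IsLocalHom (algebraMap (X.presheaf.stalk x) Osh)]
    [Hensel.IsStrictHenselization (X.presheaf.stalk x) Osh] (n : ℕ) (hn : 0 < n) (q : ℕ) :
    Nat.card (_root_.ConnectedComponents (SGA7.nearbyFibre f x Osh Ω)) = Finset.univ.gcd m ∧
      Nonempty (EtCoh.H (SGA7.nearbyFibre f x Osh Ω)
        (EtCoh.const (SGA7.nearbyFibre f x Osh Ω) (ZMod n)) q ≃+
          (Fin (Finset.univ.gcd m * Nat.choose (Nat.card C - 1) q) → ZMod n)) := by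
  obtain ⟨α, hα, hαloc, hαmax⟩ := exists_alpha f x hx
  have hC : Nonempty C := by
    by_contra hC
    rw [not_nonempty_iff] at hC
    rw [Finset.univ_eq_empty, Finset.prod_empty, Ideal.span_singleton_one, ← hαmax] at hprod
    have h1 : Ideal.map α (maximalIdeal V) ≤ maximalIdeal (X.presheaf.stalk x) :=
      ((IsLocalRing.local_hom_TFAE α).out 0 2).1 hαloc
    rw [hprod] at h1
    exact (maximalIdeal.isMaximal (X.presheaf.stalk x)).ne_top (top_le_iff.1 h1)
  obtain ⟨r, hr⟩ : ∃ r, Nat.card C = r + 1 := ⟨Nat.card C - 1, by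
    have : 0 < Nat.card C := Nat.card_pos
    omega⟩
  let e : Fin (r + 1) ≃ C := (finCongr hr.symm).trans (Finite.equivFin C).symm
  obtain ⟨π, hπ⟩ := IsDiscreteValuationRing.exists_irreducible V
  obtain ⟨k, _, _, _, ⟨ι⟩⟩ := Groth.Agent.Sga7.H431.CoeffField.exists_coeffField V
  let _ : Algebra V (X.presheaf.stalk x) := α.toAlgebra
  have i1 : IsLocalHom (algebraMap V (X.presheaf.stalk x)) := hαloc
  have hr1 : Set.range (fun i => t (e i)) = Set.range t := e.surjective.range_comp t
  obtain ⟨hregO, T, S, hTS, hdimO, hpO⟩ := Groth.Agent.Sga7.H111.NormalForm.normal_form V π hπ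
    (X.presheaf.stalk x) Osh (fun i => t (e i)) s (by rw [hr1]; exact hspan)
    (by rw [← hdim, hr]) (fun i => m (e i)) (fun i => hm _) (by
      refine hαmax.trans (hprod.trans ?_)
      rw [← e.prod_comp])
  let _ : Algebra k V := ι.toAlgebra
  let _ : Algebra k Osh := (((algebraMap (X.presheaf.stalk x) Osh).comp α).comp ι).toAlgebra
  let α' : V →ₐ[k] Osh :=
    { (algebraMap (X.presheaf.stalk x) Osh).comp α with
      commutes' := fun _ => rfl }
  have i2 : HenselianLocalRing Osh :=
    Hensel.IsStrictHenselization.henselian (X.presheaf.stalk x)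
  have i3 : IsSepClosed (ResidueField Osh) :=
    (Hensel.IsStrictHenselization.isSepClosure (R := X.presheaf.stalk x)).sep_closed
  have e1 : Spec.map (CommRingCat.ofHom (algebraMap (X.presheaf.stalk x) Osh)) ≫
      X.fromSpecStalk x ≫ f = Spec.map (CommRingCat.ofHom (α' : V →+* Osh)) := by
    rw [← hα]
    exact (Spec.map_comp _ _).symm
  have sq := IsPullback.of_hasPullback
    (Spec.map (CommRingCat.ofHom (algebraMap (X.presheaf.stalk x) Osh)) ≫ X.fromSpecStalk x ≫ f)
    (Spec.map (CommRingCat.ofHom (algebraMap V Ω)))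
  have sq' : IsPullback (pullback.fst
      (Spec.map (CommRingCat.ofHom (algebraMap (X.presheaf.stalk x) Osh)) ≫ X.fromSpecStalk x ≫ f)
      (Spec.map (CommRingCat.ofHom (algebraMap V Ω))))
      (pullback.snd (Spec.map (CommRingCat.ofHom (algebraMap (X.presheaf.stalk x) Osh)) ≫
        X.fromSpecStalk x ≫ f) (Spec.map (CommRingCat.ofHom (algebraMap V Ω))))
      (Spec.map (CommRingCat.ofHom (α' : V →+* Osh)))
      (Spec.map (CommRingCat.ofHom (algebraMap V Ω))) := e1 ▸ sq
  obtain ⟨h1, h2⟩ := Assemble.core (fun n hn => ula n hn) V Osh K Ω π hπ α' T S hTS hdimO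
    (fun i => m (e i)) (fun i => hm _) hpO sq'
  rw [gcd_equiv e m] at h1 h2
  refine ⟨h1, ?_⟩
  rw [hr, Nat.add_sub_cancel]
  exact h2 n hn.ne' q

end Groth.Agent.Sga7.H763.Final
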