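import Groth.Agent.Sga7.H763.NzSq
import Groth.Agent.Sga7.H397.LatBasis
import Mathlib.LinearAlgebra.Matrix.ToLin

/-!
# A change of coordinates of `ℤ^(r+1)` carrying a positive vector to a multiple of the first coordinate
-/

set_option autoImplicit false

namespace Groth.Agent.Sga7.H763.LatIso

open GmPow NzSq

theorem exists_rat {c : ℕ} (B : (Fin c → ℤ) ≃+ (Fin c → ℤ)) :
    ∃ BQ : (Fin c → ℚ) ≃+ (Fin c → ℚ), ∀ z, BQ (zqr c z) = zqr c (B z) := by
  classical
  let L : (Fin c → ℤ) ≃ₗ[ℤ] (Fin c → ℤ) := B.toIntLinearEquiv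
  let M := LinearMap.toMatrix' L.toLinearMap
  let N := LinearMap.toMatrix' L.symm.toLinearMap
  have hMN : M * N = 1 := by
    rw [← LinearMap.toMatrix'_comp]
    simp
  have hNM : N * M = 1 := by
    rw [← LinearMap.toMatrix'_comp]
    simp
  have hM : ∀ z, M.mulVec z = B z := fun z => LinearMap.toMatrix'_mulVec _ _
  let φ : ℤ →+* ℚ := Int.castRingHom ℚ
  have hMN' : M.map φ * N.map φ = 1 := by
    rw [← Matrix.map_mul, hMN]
    exact Matrix.map_one _ (map_zero φ) (map_one φ)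
  have hNM' : N.map φ * M.map φ = 1 := by
    rw [← Matrix.map_mul, hNM]
    exact Matrix.map_one _ (map_zero φ) (map_one φ)
  refine ⟨{ toFun := fun z => (M.map φ).mulVec z
            invFun := fun z => (N.map φ).mulVec z
            left_inv := fun z => by
              change (N.map φ).mulVec ((M.map φ).mulVec z) = z
              rw [Matrix.mulVec_mulVec, hNM', Matrix.one_mulVec]
            right_inv := fun z => by
              change (M.map φ).mulVec ((N.map φ).mulVec z) = z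
              rw [Matrix.mulVec_mulVec, hMN', Matrix.one_mulVec]
            map_add' := fun a b => Matrix.mulVec_add _ _ _ }, fun z => ?_⟩
  change (M.map φ).mulVec (zqr c z) = zqr c (B z)
  rw [← hM]
  funext i
  exact (RingHom.map_mulVec φ M z i).symm

theorem exists_iso {r : ℕ} (m : Fin (r + 1) → ℕ) (hm : ∀ i, 0 < m i) :
    ∃ (B : (Fin (r + 1) → ℤ) ≃+ (Fin (r + 1) → ℤ)) (BQ : (Fin (r + 1) → ℚ) ≃+ (Fin (r + 1) → ℚ)),
      (∀ z, BQ (zqr (r + 1) z) = zqr (r + 1) (B z)) ∧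
      ∀ a : ℤ, B (c0 ℤ r (((Finset.univ.gcd m : ℕ) : ℤ) * a)) = muZ m a := by
  obtain ⟨b, hb⟩ := Groth.Agent.Sga7.H397.LatBasis.exists_basis (Fin (r + 1)) m hm r (by simp)
  let B : (Fin (r + 1) → ℤ) ≃+ (Fin (r + 1) → ℤ) := b.equivFun.symm.toAddEquiv
  obtain ⟨BQ, hBQ⟩ := exists_rat B
  refine ⟨B, BQ, hBQ, fun a => ?_⟩
  have h1 : B (c0 ℤ r (((Finset.univ.gcd m : ℕ) : ℤ) * a)) =
      (((Finset.univ.gcd m : ℕ) : ℤ) * a) • b 0 := by
    change b.equivFun.symm _ = _
    rw [Module.Basis.equivFun_symm_apply, Fin.sum_univ_succ]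
    simp [c0]
  rw [h1, mul_comm, mul_smul, ← hb]
  funext i
  simp [muZ]

end Groth.Agent.Sga7.H763.LatIso
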