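import Groth.Agent.Sga7.H763.Dia
import Mathlib.Algebra.Polynomial.Laurent
import Mathlib.AlgebraicGeometry.Morphisms.OpenImmersion

/-!
# `Spec k[ℤ] ⟶ Spec k[ℕ]` is an open immersion
-/

set_option autoImplicit false
universe u

open CategoryTheory CategoryTheory.Limits AlgebraicGeometry

namespace Groth.Agent.Sga7.H763.NZ

open Dia

variable (k : Type u) [Field k]

theorem isOpenImmersion_toLaurent : IsOpenImmersion
    (Spec.map (CommRingCat.ofHom (Polynomial.toLaurent : Polynomial k →+* LaurentPolynomial k))) := by
  have : IsLocalization.Away (Polynomial.X : Polynomial k) (LaurentPolynomial k) := inferInstance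
  exact IsOpenImmersion.of_isLocalization (Polynomial.X : Polynomial k)

/-- The identification of polynomials with the monoid algebra. -/
noncomputable def fin : Polynomial k →+* AddMonoidAlgebra k ℕ := (Polynomial.toFinsuppIso k).toRingHom

theorem toLaurent_eq : (Polynomial.toLaurent : Polynomial k →+* LaurentPolynomial k) =
    (rm k (Nat.castAddMonoidHom ℤ)).comp (fin k) := by
  rfl

instance isIso_fin : IsIso (CommRingCat.ofHom (fin k)) :=
  (ConcreteCategory.isIso_iff_bijective _).2 (Polynomial.toFinsuppIso k).bijective

/-- `Spec` of the identification. -/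
noncomputable def sfin : D k ℕ ⟶ Spec (CommRingCat.of (Polynomial k)) :=
  Spec.map (CommRingCat.ofHom (fin k))

instance isIso_sfin : IsIso (sfin k) := by
  have := isIso_fin k
  unfold sfin
  exact inferInstanceAs (IsIso (Spec.map (CommRingCat.ofHom (fin k))))

instance isOpenImmersion_Dm : IsOpenImmersion (Dm k (Nat.castAddMonoidHom ℤ)) := by
  have h := isOpenImmersion_toLaurent k
  rw [toLaurent_eq, CommRingCat.ofHom_comp, Spec.map_comp] at h
  exact (MorphismProperty.cancel_right_of_respectsIso @IsOpenImmersion (Dm k (Nat.castAddMonoidHom ℤ))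
    (sfin k)).1 h

end Groth.Agent.Sga7.H763.NZ
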