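import Groth.Agent.Sga7.H763.StepSq
import Mathlib.Algebra.Group.Units.Hom
import Mathlib.Data.Int.Cast.Lemmas
import Mathlib.Algebra.BigOperators.Pi

/-!
# `Spec k[ℤ^c] = Spec k[ℕ^c] ×_{k[ℕ]} k[ℤ]` along a monomial with positive exponents
-/

set_option autoImplicit false
set_option backward.isDefEq.respectTransparency.types false
universe u

open CategoryTheory CategoryTheory.Limits AlgebraicGeometry

namespace Groth.Agent.Sga7.H763.NzSq

open Dia ToD GmPow StepSq

/-- `ℕ ⟶ ℤ`. -/
abbrev nz : ℕ →+ ℤ := Nat.castAddMonoidHom ℤ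

/-- `ℕ^r ⟶ ℤ^r`. -/
abbrev nzr (r : ℕ) : (Fin r → ℕ) →+ (Fin r → ℤ) := nz.compLeft (Fin r)

variable {c : ℕ} (m : Fin c → ℕ)

/-- `a ↦ a • m`. -/
def muN : ℕ →+ (Fin c → ℕ) where
  toFun a i := a * m i
  map_zero' := by ext i; simp
  map_add' a b := by ext i; simp [add_mul]

/-- `a ↦ a • m`. -/
def muZ : ℤ →+ (Fin c → ℤ) where
  toFun a i := a * m i
  map_zero' := by ext i; simp
  map_add' a b := by ext i; simp [add_mul]

theorem muZ_nz : (muZ m).comp nz = (nzr c).comp (muN m) := by
  refine AddMonoidHom.ext fun a => funext fun i => ?_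
  simp [muZ, muN]

variable (k : Type u) [Field k]

section

variable {S : Type*} [CommRing S]

theorem single_mul {M : Type} [AddCommMonoid M] (f : AddMonoidAlgebra k M →+* S) (a b : M) :
    f (AddMonoidAlgebra.single (a + b) 1) =
      f (AddMonoidAlgebra.single a 1) * f (AddMonoidAlgebra.single b 1) := by
  rw [← map_mul, AddMonoidAlgebra.single_mul_single, one_mul]

theorem isUnit_single {G : Type} [AddCommGroup G] (f : AddMonoidAlgebra k G →+* S) (z : G) :
    IsUnit (f (AddMonoidAlgebra.single z 1)) := by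
  refine IsUnit.of_mul_eq_one (f (AddMonoidAlgebra.single (-z) 1)) ?_
  rw [← single_mul, add_neg_cancel]
  exact map_one f

/-- Homomorphisms from the monoid algebra of a group are determined by a generating monoid. -/
theorem ext_of_gen {M G : Type} [AddCommMonoid M] [AddCommGroup G] (ι : M →+ G)
    (hι : ∀ z : G, ∃ a b : M, z + ι b = ι a) (f g : AddMonoidAlgebra k G →+* S)
    (h : f.comp (rm k ι) = g.comp (rm k ι)) : f = g := by
  have hh : ∀ (a : M) (r : k), f (AddMonoidAlgebra.single (ι a) r) = g (AddMonoidAlgebra.single (ι a) r) := by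
    intro a r
    have := RingHom.congr_fun h (AddMonoidAlgebra.single a r)
    simpa using this
  apply hom_ext'
  · intro r
    have := hh 0 r
    rwa [map_zero] at this
  · intro z
    obtain ⟨a, b, hab⟩ := hι z
    refine (isUnit_single k f (ι b)).mul_right_cancel ?_
    rw [← single_mul, hab, hh a 1, hh b 1, ← single_mul, hab]

theorem gen_nzr (z : Fin c → ℤ) : ∃ a b : Fin c → ℕ, z + nzr c b = nzr c a := by
  refine ⟨fun i => (z i).toNat, fun i => (-z i).toNat, funext fun i => ?_⟩
  change z i + ((-z i).toNat : ℤ) = ((z i).toNat : ℤ)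
  omega

theorem gen_nz (z : ℤ) : ∃ a b : ℕ, z + nz b = nz a := by
  refine ⟨z.toNat, (-z).toNat, ?_⟩
  change z + ((-z).toNat : ℤ) = (z.toNat : ℤ)
  omega

/-- The extension of a character of `ℕ^c` with unit values to `ℤ^c`. -/
theorem exists_ext (χ : Multiplicative (Fin c → ℕ) →* S)
    (hχ : ∀ a, IsUnit (χ (Multiplicative.ofAdd a))) :
    ∃ ψ : Multiplicative (Fin c → ℤ) →* S,
      ∀ a, ψ (Multiplicative.ofAdd (nzr c a)) = χ (Multiplicative.ofAdd a) := by
  classical
  let u : Fin c → Sˣ := fun i => (hχ (Pi.single i 1)).unit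
  have hu : ∀ i, (u i : S) = χ (Multiplicative.ofAdd (Pi.single i 1)) := fun i => rfl
  let ω : Multiplicative (Fin c → ℤ) →* Sˣ :=
    { toFun := fun z => ∏ i, u i ^ (z.toAdd i)
      map_one' := by simp
      map_mul' := fun a b => by simp [zpow_add, Finset.prod_mul_distrib] }
  refine ⟨(Units.coeHom S).comp ω, fun a => ?_⟩
  change ((∏ i, u i ^ ((nzr c a) i) : Sˣ) : S) = _
  have h1 : ∀ i, u i ^ ((nzr c a) i) = u i ^ (a i) := fun i => zpow_natCast _ _
  simp only [h1]
  rw [Units.coe_prod]
  simp only [Units.val_pow_eq_pow_val, hu]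
  have h2 : a = ∑ i, a i • (Pi.single i 1 : Fin c → ℕ) := by
    ext j
    simp [Finset.sum_apply, Pi.single_apply]
  conv_rhs => rw [h2]
  rw [ofAdd_sum, map_prod]
  refine Finset.prod_congr rfl fun i _ => ?_
  rw [ofAdd_nsmul, map_pow]

end

theorem isPushout_nz (hm : ∀ i, 0 < m i) :
    IsPushout (CommRingCat.ofHom (rm k (muN m))) (CommRingCat.ofHom (rm k nz))
      (CommRingCat.ofHom (rm k (nzr c))) (CommRingCat.ofHom (rm k (muZ m))) := by
  have w : CommRingCat.ofHom (rm k (muN m)) ≫ CommRingCat.ofHom (rm k (nzr c)) =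
      CommRingCat.ofHom (rm k nz) ≫ CommRingCat.ofHom (rm k (muZ m)) := by
    rw [← CommRingCat.ofHom_comp, ← CommRingCat.ofHom_comp, ← rm_comp, ← rm_comp, muZ_nz]
  have key : ∀ s : PushoutCocone (CommRingCat.ofHom (rm k (muN m))) (CommRingCat.ofHom (rm k nz)),
      ∀ a, IsUnit (chr s.inl.hom (Multiplicative.ofAdd a)) := by
    intro s a
    have hs : ∀ b : ℕ, s.inl.hom (AddMonoidAlgebra.single (muN m b) 1) =
        s.inr.hom (AddMonoidAlgebra.single (b : ℤ) 1) := by
      intro b
      have := RingHom.congr_fun (congrArg CommRingCat.Hom.hom s.condition)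
        (AddMonoidAlgebra.single b 1)
      simpa using this
    have hu : IsUnit (s.inl.hom (AddMonoidAlgebra.single (muN m (∑ i, a i)) 1)) := by
      rw [hs]
      exact isUnit_single k s.inr.hom _
    have hle : ∀ i, a i ≤ (∑ i, a i) * m i := fun i =>
      (Finset.single_le_sum (fun j _ => Nat.zero_le (a j)) (Finset.mem_univ i)).trans
        (Nat.le_mul_of_pos_right _ (hm i))
    have he : muN m (∑ i, a i) = a + (fun i => (∑ i, a i) * m i - a i) := by
      ext i
      change (∑ i, a i) * m i = a i + ((∑ i, a i) * m i - a i)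
      have := hle i
      omega
    rw [he, single_mul] at hu
    exact isUnit_of_mul_isUnit_left hu
  refine ⟨⟨w⟩, ⟨PushoutCocone.IsColimit.mk w ?_ ?_ ?_ ?_⟩⟩
  · intro s
    exact CommRingCat.ofHom (mk k (cst s.inl.hom) (exists_ext (chr s.inl.hom) (key s)).choose)
  · intro s
    have hc := (exists_ext (chr s.inl.hom) (key s)).choose_spec
    set ω := (exists_ext (chr s.inl.hom) (key s)).choose
    refine CommRingCat.hom_ext (hom_ext' ?_ ?_)
    · intro r
      change mk k (cst s.inl.hom) ω (rm k (nzr c) _) = _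
      rw [rm_single, map_zero, mk_single, ofAdd_zero, map_one, mul_one]
      rfl
    · intro a
      change mk k (cst s.inl.hom) ω (rm k (nzr c) _) = _
      rw [rm_single, mk_single, map_one, one_mul, hc]
      rfl
  · intro s
    have hc := (exists_ext (chr s.inl.hom) (key s)).choose_spec
    set ω := (exists_ext (chr s.inl.hom) (key s)).choose
    refine CommRingCat.hom_ext (ext_of_gen k nz gen_nz _ _ ?_)
    have h1 : (mk k (cst s.inl.hom) ω).comp (rm k (nzr c)) = s.inl.hom := by
      apply hom_ext'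
      · intro r
        change mk k (cst s.inl.hom) ω (rm k (nzr c) _) = _
        rw [rm_single, map_zero, mk_single, ofAdd_zero, map_one, mul_one]
        rfl
      · intro a
        change mk k (cst s.inl.hom) ω (rm k (nzr c) _) = _
        rw [rm_single, mk_single, map_one, one_mul, hc]
        rfl
    change ((mk k (cst s.inl.hom) ω).comp (rm k (muZ m))).comp (rm k nz) = s.inr.hom.comp (rm k nz)
    rw [RingHom.comp_assoc, ← rm_comp, muZ_nz, rm_comp, ← RingHom.comp_assoc, h1]
    exact congrArg CommRingCat.Hom.hom s.condition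
  · intro s f h1 _
    have hc := (exists_ext (chr s.inl.hom) (key s)).choose_spec
    set ω := (exists_ext (chr s.inl.hom) (key s)).choose
    refine CommRingCat.hom_ext (ext_of_gen k (nzr c) gen_nzr _ _ ?_)
    have h1' : f.hom.comp (rm k (nzr c)) = s.inl.hom := congrArg CommRingCat.Hom.hom h1
    rw [h1']
    apply hom_ext'
    · intro r
      change _ = mk k (cst s.inl.hom) ω (rm k (nzr c) _)
      rw [rm_single, map_zero, mk_single, ofAdd_zero, map_one, mul_one]
      rfl
    · intro a
      change _ = mk k (cst s.inl.hom) ω (rm k (nzr c) _)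
      rw [rm_single, mk_single, map_one, one_mul, hc]
      rfl

/-- The pullback square. -/
theorem sq_nz (hm : ∀ i, 0 < m i) :
    IsPullback (Dm k (nzr c)) (Dm k (muZ m)) (Dm k (muN m)) (Dm k nz) :=
  isPullback_SpecMap_of_isPushout _ _ _ _ (isPushout_nz m k hm)

end Groth.Agent.Sga7.H763.NzSq
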