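import Groth.Agent.Sga7.H763.GmPow
import Groth.Agent.Sga7.H763.ToD
import Mathlib.Algebra.BigOperators.Fin

/-!
# Adding one variable: the cartesian squares
-/

set_option autoImplicit false
set_option backward.isDefEq.respectTransparency.types false
universe u

open CategoryTheory CategoryTheory.Limits AlgebraicGeometry Opposite

namespace Groth.Agent.Sga7.H763.StepSq

open Dia ToD GmPow

section general

variable {V : Type*} [Category V]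

/-- The cartesian square of one step of the tower. -/
theorem step_sq {SC SR DN1 DNc DN' DM DQ' DQ1 DQc P' P E : V}
    {τ' : SC ⟶ DN'} {u₁ : DM ⟶ DN'} {u₂ : DQ' ⟶ DM} {q₁ : DN' ⟶ DN1} {v₁ : DQ1 ⟶ DN1} {p₁ : DM ⟶ DQ1}
    {q₂ : DM ⟶ DNc} {p₂ : DQ' ⟶ DQc} {v₂ : DQc ⟶ DNc} {q₀ : DN' ⟶ DNc} {φ : SC ⟶ SR} {τ : SR ⟶ DNc}
    {a' : P' ⟶ SC} {b' : P' ⟶ DQ'} {a : P ⟶ SR} {b : P ⟶ DQc} {e₁ : E ⟶ SC} {e₂ : E ⟶ DQ1}
    (sq₁ : IsPullback u₁ p₁ q₁ v₁) (sq₂ : IsPullback u₂ p₂ q₂ v₂) (hq : u₁ ≫ q₀ = q₂)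
    (hφ : φ ≫ τ = τ' ≫ q₀) (sqP' : IsPullback a' b' τ' (u₂ ≫ u₁)) (sqE : IsPullback e₁ e₂ (τ' ≫ q₁) v₁)
    (sqP : IsPullback a b τ v₂) :
    ∃ (x : P' ⟶ P) (y : P' ⟶ E), IsPullback x y a (e₁ ≫ φ) ∧ y ≫ e₁ = a' := by
  have w1 : (e₁ ≫ τ') ≫ q₁ = e₂ ≫ v₁ := by rw [Category.assoc, sqE.w]
  obtain ⟨m, m1, m2⟩ : ∃ m : E ⟶ DM, m ≫ u₁ = e₁ ≫ τ' ∧ m ≫ p₁ = e₂ :=
    ⟨sq₁.lift _ _ w1, sq₁.lift_fst _ _ _, sq₁.lift_snd _ _ _⟩
  have s1 : IsPullback m e₁ u₁ τ' := by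
    refine IsPullback.of_right ?_ m1 sq₁.flip
    rw [m2]
    exact sqE.flip
  obtain ⟨y, y1, y2⟩ : ∃ y : P' ⟶ E, y ≫ m = b' ≫ u₂ ∧ y ≫ e₁ = a' :=
    ⟨s1.lift (b' ≫ u₂) a' (by rw [Category.assoc, ← sqP'.w]), s1.lift_fst _ _ _, s1.lift_snd _ _ _⟩
  have s2 : IsPullback b' y u₂ m := by
    refine IsPullback.of_bot ?_ y1.symm s1
    rw [y2]
    exact sqP'.flip
  have s3 := s2.paste_horiz sq₂.flip
  have e3 : m ≫ q₂ = (e₁ ≫ φ) ≫ τ := by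
    rw [← hq, ← Category.assoc, m1, Category.assoc, Category.assoc, hφ]
  have w4 : (y ≫ e₁ ≫ φ) ≫ τ = (b' ≫ p₂) ≫ v₂ := by
    rw [s3.w, e3, Category.assoc]
  obtain ⟨x, x1, x2⟩ : ∃ x : P' ⟶ P, x ≫ a = y ≫ e₁ ≫ φ ∧ x ≫ b = b' ≫ p₂ :=
    ⟨sqP.lift _ _ w4, sqP.lift_fst _ _ _, sqP.lift_snd _ _ _⟩
  refine ⟨x, y, ?_, y2⟩
  refine IsPullback.of_right ?_ x1 sqP.flip
  rw [x2, ← e3]
  exact s3

end general

/-- `ℕ ⟶ ℚ`. -/
abbrev nq : ℕ →+ ℚ := Nat.castAddMonoidHom ℚ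

variable (r : ℕ)

/-- `ℕ^r ⟶ ℚ^r`. -/
abbrev nqr : (Fin r → ℕ) →+ (Fin r → ℚ) := nq.compLeft (Fin r)

/-- `ℕ^(r+1) ⟶ ℚ × ℕ^r`. -/
def fn : (Fin (r + 1) → ℕ) →+ ℚ × (Fin r → ℕ) where
  toFun z := ((z 0 : ℚ), Fin.tail z)
  map_zero' := by
    refine Prod.ext (by simp) (funext fun i => by simp [Fin.tail])
  map_add' a b := by
    refine Prod.ext (by simp) (funext fun i => by simp [Fin.tail])

/-- `ℚ × ℕ^r ⟶ ℚ^(r+1)`. -/
def gn : ℚ × (Fin r → ℕ) →+ (Fin (r + 1) → ℚ) where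
  toFun z := Fin.cons z.1 (fun i => (z.2 i : ℚ))
  map_zero' := by
    ext i
    refine Fin.cases ?_ (fun i => ?_) i <;> simp
  map_add' a b := by
    ext i
    refine Fin.cases ?_ (fun i => ?_) i <;> simp

theorem gn_fn : (gn r).comp (fn r) = nqr (r + 1) := by
  refine AddMonoidHom.ext fun z => funext fun i => ?_
  refine Fin.cases ?_ (fun i => ?_) i <;> simp [gn, fn, Fin.tail]

variable (k : Type u) [Field k]

/-- The first pullback square. -/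
theorem sqn1 : IsPullback (Dm k (fn r)) (Dm k (AddMonoidHom.inl ℚ (Fin r → ℕ)))
    (Dm k (c0 ℕ r)) (Dm k nq) := by
  refine isPullback_of_sum k nq (c0 ℕ r) (cs ℕ r) (AddMonoidHom.inl ℚ (Fin r → ℕ))
    (AddMonoidHom.inr ℚ (Fin r → ℕ)) (fn r) ?_ ?_ (bij_cons ℕ r) (bij_prod ℚ (Fin r → ℕ))
  · refine AddMonoidHom.ext fun z => Prod.ext ?_ (funext fun i => ?_) <;> simp [fn, c0]
  · refine AddMonoidHom.ext fun z => Prod.ext ?_ (funext fun i => ?_) <;> simp [fn, cs]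

/-- The second pullback square. -/
theorem sqn2 : IsPullback (Dm k (gn r)) (Dm k (cs ℚ r))
    (Dm k (AddMonoidHom.inr ℚ (Fin r → ℕ))) (Dm k (nqr r)) := by
  refine isPullback_of_sum k (nqr r) (AddMonoidHom.inr ℚ (Fin r → ℕ))
    (AddMonoidHom.inl ℚ (Fin r → ℕ)) (cs ℚ r) (c0 ℚ r) (gn r) ?_ ?_ (bij_prod' ℚ (Fin r → ℕ))
    (bij_cons' ℚ r)
  · refine AddMonoidHom.ext fun z => funext fun i => ?_
    refine Fin.cases ?_ (fun i => ?_) i <;> simp [gn, cs]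
  · refine AddMonoidHom.ext fun z => funext fun i => ?_
    refine Fin.cases ?_ (fun i => ?_) i <;> simp [gn, c0]

variable {k} {r} {R C : Type u} [CommRing R] [CommRing C] [Algebra k R] [Algebra k C]

theorem mpw_c0 (t : Fin r → C) (T : C) :
    (mpw (Fin.cons T t : Fin (r + 1) → C)).comp (AddMonoidHom.toMultiplicative (c0 ℕ r)) = pw T := by
  refine MonoidHom.ext fun x => ?_
  obtain ⟨x, rfl⟩ := Multiplicative.ofAdd.surjective x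
  change mpw (Fin.cons T t : Fin (r + 1) → C) (Multiplicative.ofAdd (c0 ℕ r x)) = _
  rw [mpw_ofAdd, pw_ofAdd, Fin.prod_univ_succ]
  simp [c0]

theorem mpw_cs (t : Fin r → C) (T : C) :
    (mpw (Fin.cons T t : Fin (r + 1) → C)).comp (AddMonoidHom.toMultiplicative (cs ℕ r)) = mpw t := by
  refine MonoidHom.ext fun x => ?_
  obtain ⟨x, rfl⟩ := Multiplicative.ofAdd.surjective x
  change mpw (Fin.cons T t : Fin (r + 1) → C) (Multiplicative.ofAdd (cs ℕ r x)) = _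
  rw [mpw_ofAdd, mpw_ofAdd, Fin.prod_univ_succ]
  simp [cs]

theorem comp_mpw {ι : Type} [Fintype ι] (φ : R →+* C) (t : ι → R) :
    (φ : R →* C).comp (mpw t) = mpw (fun i => φ (t i)) := by
  refine MonoidHom.ext fun x => ?_
  obtain ⟨x, rfl⟩ := Multiplicative.ofAdd.surjective x
  change φ (mpw t (Multiplicative.ofAdd x)) = _
  rw [mpw_ofAdd, mpw_ofAdd, map_prod]
  simp

/-- One step of the tower, for the actual schemes. -/
theorem step {φ : R →ₐ[k] C} {t : Fin r → R} {T : C} {P' P E : Scheme.{u}}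
    {a' : P' ⟶ Spec (CommRingCat.of C)} {b' : P' ⟶ D k (Fin (r + 1) → ℚ)}
    {a : P ⟶ Spec (CommRingCat.of R)} {b : P ⟶ D k (Fin r → ℚ)} {e₁ : E ⟶ Spec (CommRingCat.of C)}
    {e₂ : E ⟶ D k ℚ}
    (sqP' : IsPullback a' b' (toD k (mpw (Fin.cons T (fun i => φ (t i)) : Fin (r + 1) → C)))
      (Dm k (nqr (r + 1))))
    (sqE : IsPullback e₁ e₂ (toD k (pw T)) (Dm k nq))
    (sqP : IsPullback a b (toD k (mpw t)) (Dm k (nqr r))) :
    ∃ (x : P' ⟶ P) (y : P' ⟶ E),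
      IsPullback x y a (e₁ ≫ Spec.map (CommRingCat.ofHom φ.toRingHom)) ∧ y ≫ e₁ = a' := by
  refine step_sq (sqn1 r k) (sqn2 r k) (q₀ := Dm k (cs ℕ r)) (τ := toD k (mpw t))
    (τ' := toD k (mpw (Fin.cons T (fun i => φ (t i)) : Fin (r + 1) → C))) (b' := b') (e₂ := e₂)
    (b := b) ?_ ?_ ?_ ?_ sqP
  · rw [Dm_comp]
    congr 1
  · rw [toD_Dm, mpw_cs]
    refine (map_toD k φ (mpw t)).trans ?_
    congr 1
    exact comp_mpw (φ : R →+* C) t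
  · rw [Dm_comp, gn_fn]
    exact sqP'
  · rw [toD_Dm, mpw_c0]
    exact sqE

end Groth.Agent.Sga7.H763.StepSq
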